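import Cfsg.Agent.Lib.SmallOrder.Refined

/-!
A group of order `6048` without elements of order `9`, `14`, `21`: the Sylow 7-subgroups.
-/

set_option autoImplicit false

namespace CfsgLib.UThreeRecog

open Subgroup CfsgLib.SmallOrder

universe u

/-- No elements of order `9`, `14` or `21`. -/
structure Sparse (G : Type u) [Group G] : Prop where
  nine : ∀ g : G, orderOf g ≠ 9
  fourteen : ∀ g : G, orderOf g ≠ 14
  twentyone : ∀ g : G, orderOf g ≠ 21

variable {G : Type u} [Group G] [Finite G]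

instance factSeven : Fact (Nat.Prime 7) := ⟨by norm_num⟩

theorem Sparse.not_commute_seven (h : Sparse G) {r : ℕ} (hr : r = 2 ∨ r = 3) {u x : G} (hu : orderOf u = 7)
    (hx : orderOf x = r) : ¬ Commute u x := by
  intro hc
  have hcop : (orderOf u).Coprime (orderOf x) := by
    rw [hu, hx]
    rcases hr with rfl | rfl <;> norm_num
  have hm := hc.orderOf_mul_eq_mul_orderOf_of_coprime hcop
  rw [hu, hx] at hm
  rcases hr with rfl | rfl
  · exact h.fourteen _ hm
  · exact h.twentyone _ hm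

theorem Sparse.card_centralizer_seven (h : Sparse G) {a b : ℕ} (hN : Nat.card G = 2 ^ a * 3 ^ b * 7)
    (P : Sylow 7 G) :
    Nat.card ↥(P : Subgroup G) = 7 ∧ Nat.card ↥(centralizer ((P : Subgroup G) : Set G)) = 7 := by
  have hnd : ¬ 7 ∣ 2 ^ a * 3 ^ b := by
    intro hd
    rcases (by norm_num : Nat.Prime 7).dvd_mul.1 hd with h | h <;>
      · have := (by norm_num : Nat.Prime 7).dvd_of_dvd_pow h
        norm_num at this
  have hP : Nat.card ↥(P : Subgroup G) = 7 := by
    simpa using card_sylow_eq (e := 1) (m := 2 ^ a * 3 ^ b) (by rw [hN, pow_one, mul_comm]) hnd P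
  obtain ⟨S⟩ := exists_csplit P hP
  refine ⟨hP, ?_⟩
  rw [S.card_centralizer]
  suffices Nat.card S.V = 1 by rw [this]
  by_contra hne
  obtain ⟨r, hr, hrd⟩ := Nat.exists_prime_and_dvd hne
  have : Fact r.Prime := ⟨hr⟩
  obtain ⟨⟨x, hx⟩, hxo⟩ := exists_prime_orderOf_dvd_card' r hrd
  rw [Subgroup.orderOf_mk] at hxo
  have hrG : r ∣ 2 ^ a * 3 ^ b * 7 := hN ▸ hxo ▸ orderOf_dvd_natCard x
  have hr7 : r ≠ 7 := fun e => S.hcop (e ▸ hrd)
  refine h.not_commute_seven ?_ S.hz hxo (S.hcomm x hx)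
  rcases hr.dvd_mul.1 hrG with h' | h'
  · rcases hr.dvd_mul.1 h' with h'' | h''
    · exact Or.inl ((Nat.prime_dvd_prime_iff_eq hr Nat.prime_two).1 (hr.dvd_of_dvd_pow h''))
    · exact Or.inr ((Nat.prime_dvd_prime_iff_eq hr Nat.prime_three).1 (hr.dvd_of_dvd_pow h''))
  · exact absurd ((Nat.prime_dvd_prime_iff_eq hr (by norm_num)).1 h') hr7

/-- the normaliser of a Sylow 7-subgroup has order dividing 42 -/
theorem Sparse.card_normalizer_seven_dvd (h : Sparse G) {a b : ℕ} (hN : Nat.card G = 2 ^ a * 3 ^ b * 7)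
    (P : Sylow 7 G) : Nat.card ↥(normalizer ((P : Subgroup G) : Set G)) ∣ 42 := by
  cases nonempty_fintype G
  obtain ⟨hP, hC⟩ := h.card_centralizer_seven hN P
  obtain ⟨S⟩ := exists_csplit P hP
  have h1 := S.card_centralizer
  rw [hC] at h1
  rw [S.card_normalizer, ← h1, show 42 = 7 * 6 by norm_num]
  refine mul_dvd_mul_left 7 ?_
  have hd := S.act.range.card_subgroup_dvd_card
  rwa [Nat.card_eq_fintype_card (α := (ZMod 7)ˣ), ZMod.card_units 7] at hd

theorem card_normalizer_seven [IsSimpleGroup G] (hN : Nat.card G = 6048) (h : Sparse G) (P : Sylow 7 G) :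
    Nat.card ↥(normalizer ((P : Subgroup G) : Set G)) = 21 := by
  have hd := h.card_normalizer_seven_dvd (a := 5) (b := 3) (by rw [hN]; norm_num) P
  have hm : Nat.card (Sylow 7 G) % 7 = 1 := card_sylow_modEq_one 7 G
  have hmul := card_normalizer_mul P
  rw [hN] at hmul
  have h0 : 0 < Nat.card ↥(normalizer ((P : Subgroup G) : Set G)) := Nat.card_pos
  have hle := Nat.le_of_dvd (by norm_num) hd
  generalize Nat.card (Sylow 7 G) = n at hm hmul
  generalize Nat.card ↥(normalizer ((P : Subgroup G) : Set G)) = k at hd hmul h0 hle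
  interval_cases k <;> omega

end CfsgLib.UThreeRecog
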