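import Cfsg.Agent.Lib.UThreeRecog.Basic
import Cfsg.Agent.Lib.SmallOrder.InvolutionCount
import Cfsg.Agent.Lib.Char.Conj

/-!
A simple group of order `6048` without elements of order `9`, `14`, `21`: the characters of the principal
7-block and their values at the elements of order three.
-/

set_option autoImplicit false

namespace CfsgLib.UThreeRecog

open Subgroup CfsgLib.SmallOrder
open scoped ComplexConjugate

universe u

/-- admissible pairs (sign, degree) of the non-exceptional characters -/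
def cand : List (ℤ × ℕ) :=
  [1, -1].flatMap fun w => ((List.range 78).filter fun f => decide (3 ≤ f) && Nat.beq (6048 % f) 0 &&
    decide (((f : ℤ) + w) % 7 = 0)).map fun f => (w, f)

/-- admissible exceptional degrees -/
def cand0 (c : ℤ) : List ℕ :=
  (List.range 56).filter fun f => decide (3 ≤ f) && Nat.beq (6048 % f) 0 && decide (((f : ℤ) - 3 * c) % 7 = 0)

/-- the two possible blocks -/
def goodShape (c : ℤ) (f : ℕ) (x y : ℤ × ℕ) : Bool :=
  (decide (c = -1) && Nat.beq f 32 &&
    (decide (x = ((1 : ℤ), 6) ∧ y = ((1 : ℤ), 27)) || decide (x = ((1 : ℤ), 27) ∧ y = ((1 : ℤ), 6)))) ||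
  (decide (c = 1) && Nat.beq f 3 &&
    (decide (x = ((-1 : ℤ), 8) ∧ y = ((1 : ℤ), 6)) || decide (x = ((1 : ℤ), 6) ∧ y = ((-1 : ℤ), 8))))

theorem shapes : ([1, -1].all fun c : ℤ => (cand0 c).all fun f => cand.all fun x => cand.all fun y =>
    !(decide (x.1 * (x.2 : ℤ) + y.1 * (y.2 : ℤ) + c * (f : ℤ) = 1) &&
      (bVals f).any fun b => valSearch 6048 (fun _ _ => true) [x, y] (-1 + c * b)
        (-(6048 : ℤ) + c * b * b * ((6048 / f : ℕ) : ℤ)) fun q => decide (q = 0)) || goodShape c f x y) = true := by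
  decide +kernel

variable {G : Type u} [Group G]

theorem exists_shape [Fintype G] [IsSimpleGroup G] (hN : Nat.card G = 6048) (h : Sparse G) {P : Sylow 7 G}
    (S : CSplit 7 P) (B : S.BlockSolution 2) (he : Nat.card S.act.range = 3) :
    ∃ x y : ℤ × Cfsg.IrrCharacter G, B.χs = [x, y] ∧
      goodShape ((2 : ℤ) * B.sol.k + B.sol.ε) B.sol.f0 (x.1, Char.degree x.2.1) (y.1, Char.degree y.2.1) = true := by
  classical
  have hG : ¬ IsMulCommutative G := not_comm_of_not_prime (by rw [hN]; norm_num)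
  have hnorm := B.sol.norm.trans (congrArg (Nat.cast (R := ℤ)) he)
  rw [B.hl, List.map_map] at hnorm
  push_cast at hnorm
  have hw : ∀ x ∈ B.χs, x.1 ≠ 0 ∧ 3 ≤ Char.degree x.2.1 ∧ Char.degree x.2.1 ∣ 6048 ∧
      (7 : ℤ) ∣ (Char.degree x.2.1 : ℤ) + x.1 := by
    intro x hx
    have := B.sol.others (x.1, Char.degree x.2.1) (by rw [B.hl]; exact List.mem_map.2 ⟨x, hx, rfl⟩)
    exact ⟨this.1, he.symm.le.trans this.2.1, this.2.2.1.trans (dvd_of_eq hN), this.2.2.2⟩
  have hsq : ∀ x ∈ B.χs, (1 : ℤ) ≤ x.1 ^ 2 := fun x hx => by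
    have := (hw x hx).1
    rcases lt_or_gt_of_ne this with h' | h' <;> nlinarith
  obtain ⟨x, y, hxy, hx2, hy2, hc⟩ : ∃ x y, B.χs = [x, y] ∧ x.1 ^ 2 = 1 ∧ y.1 ^ 2 = 1 ∧
      (B.sol.k = 0 ∨ B.sol.k = -B.sol.ε) := by
    have hk : B.sol.k = 0 ∨ B.sol.k = -B.sol.ε := by
      have hnn : 0 ≤ ((B.χs.map ((fun x : ℤ × ℕ => x.1 ^ 2) ∘ fun x => (x.1, Char.degree x.2.1)))).sum :=
        List.sum_nonneg fun z hz => by obtain ⟨a, _, rfl⟩ := List.mem_map.1 hz; exact sq_nonneg _
      rcases B.sol.hε with hε | hε <;> rw [hε] at hnorm ⊢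
      · have h1 : -1 ≤ B.sol.k := by nlinarith
        have h2 : B.sol.k ≤ 0 := by nlinarith
        omega
      · have h1 : 0 ≤ B.sol.k := by nlinarith
        have h2 : B.sol.k ≤ 1 := by nlinarith
        omega
    have h0 : (2 : ℤ) * B.sol.k ^ 2 + 2 * B.sol.ε * B.sol.k = 0 := by
      rcases hk with hk | hk <;> rw [hk] <;> ring
    match hl : B.χs with
    | [] => rw [hl] at hnorm; simp at hnorm; linarith
    | [a] =>
      rw [hl] at hnorm
      simp at hnorm
      exfalso
      have : a.1 * a.1 = 2 := by linarith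
      have h1 : -1 ≤ a.1 ∧ a.1 ≤ 1 := ⟨by nlinarith, by nlinarith⟩
      obtain ⟨h1, h1'⟩ := h1
      interval_cases a.1 <;> simp at this
    | [a, b] =>
      have ha := hsq a (by rw [hl]; simp)
      have hb := hsq b (by rw [hl]; simp)
      rw [hl] at hnorm
      simp at hnorm
      exact ⟨a, b, rfl, by linarith, by linarith, hk⟩
    | a :: b :: c :: l =>
      exfalso
      have ha := hsq a (by rw [hl]; simp)
      have hb := hsq b (by rw [hl]; simp)
      have hc := hsq c (by rw [hl]; simp)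
      rw [hl] at hnorm
      simp at hnorm
      have : 0 ≤ (l.map ((fun x : ℤ × ℕ => x.1 ^ 2) ∘ fun x => (x.1, Char.degree x.2.1))).sum :=
        List.sum_nonneg fun z hz => by obtain ⟨a, _, rfl⟩ := List.mem_map.1 hz; exact sq_nonneg _
      simp only [Function.comp_def] at this hnorm
      linarith
  refine ⟨x, y, hxy, ?_⟩
  have hsquares := B.sol.squares.trans_eq hN
  rw [B.hl, hxy] at hsquares
  simp only [List.map_cons, List.map_nil, List.sum_cons, List.sum_nil, add_zero] at hsquares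
  set c : ℤ := (2 : ℤ) * B.sol.k + B.sol.ε with hcdef
  have hc1 : c = 1 ∨ c = -1 := by
    rcases B.sol.hε with hε | hε <;> rcases hc with hk | hk <;> rw [hcdef, hk, hε] <;> norm_num
  have hmem : ∀ z ∈ B.χs, z.1 ^ 2 = 1 → Char.degree z.2.1 ^ 2 ≤ 6048 → (z.1, Char.degree z.2.1) ∈ cand := by
    intro z hz hz2 hd
    obtain ⟨-, h3, hdv, h7⟩ := hw z hz
    refine List.mem_flatMap.2 ⟨z.1, ?_, List.mem_map.2 ⟨_, List.mem_filter.2 ⟨List.mem_range.2 (by nlinarith), ?_⟩, rfl⟩⟩
    · rcases sq_eq_one_iff.1 hz2 with h' | h' <;> simp [h']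
    · simp [h3, Nat.mod_eq_zero_of_dvd hdv, Int.emod_eq_zero_of_dvd h7]
  have hxm := hmem x (by rw [hxy]; simp) hx2 (by nlinarith)
  have hym := hmem y (by rw [hxy]; simp) hy2 (by nlinarith)
  have hfm : B.sol.f0 ∈ cand0 c := by
    refine List.mem_filter.2 ⟨List.mem_range.2 (by nlinarith), ?_⟩
    have h3 : 3 ≤ B.sol.f0 := he.symm.le.trans B.sol.f0_le
    have hd : B.sol.f0 ∣ 6048 := B.sol.f0_dvd.trans (dvd_of_eq hN)
    have h7 : (7 : ℤ) ∣ (B.sol.f0 : ℤ) - 3 * c := by
      have h7 := B.sol.f0_congr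
      rw [show ((Nat.card S.act.range : ℕ) : ℤ) = 3 by rw [he]; rfl] at h7
      rcases hc with hk | hk
      · rw [hcdef, hk]; rw [hk] at h7; simpa using h7
      · rw [hcdef, hk]; rw [hk] at h7
        rw [show (B.sol.f0 : ℤ) - 3 * (2 * -B.sol.ε + B.sol.ε) =
          ((B.sol.f0 : ℤ) - (3 * B.sol.ε - -B.sol.ε)) + 7 * B.sol.ε by ring]
        exact dvd_add h7 (dvd_mul_right _ _)
    simp [h3, Nat.mod_eq_zero_of_dvd hd, Int.emod_eq_zero_of_dvd h7]
  have hall := shapes
  simp only [List.all_eq_true] at hall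
  have hh := hall c (by rcases hc1 with h' | h' <;> simp [h']) _ hfm _ hxm _ hym
  have hdeg := B.sol.degEq
  rw [B.hl, hxy] at hdeg
  simp only [List.map_cons, List.map_nil, List.sum_cons, List.sum_nil, add_zero] at hdeg
  push_cast at hdeg
  rw [← hcdef] at hdeg
  have : Fact (Nat.Prime 2) := ⟨Nat.prime_two⟩
  obtain ⟨t, ht⟩ := exists_prime_orderOf_dvd_card' (G := G) 2 (by rw [hN]; norm_num)
  have ht1 : t ≠ 1 := fun e => by rw [e, orderOf_one] at ht; norm_num at ht
  have ht2 : t ^ 2 = 1 := ht ▸ pow_orderOf_eq_one t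
  have hodd : ∀ s : G, s ∈ normalizer ((P : Subgroup G) : Set G) → IsConj t s → False := by
    intro s hs hts
    obtain ⟨a, ha⟩ := isConj_iff.1 hts
    have hso : orderOf s = 2 := by
      rw [← ha, show a * t * a⁻¹ = MulAut.conj a t from rfl, MulEquiv.orderOf_eq]; exact ht
    have := hso ▸ Subgroup.orderOf_dvd_natCard _ hs
    rw [card_normalizer_seven hN h P] at this
    norm_num at this
  have hrel := fun o => S.other_involution_relations (by norm_num) ht1 ht2 hodd o
  have hs := S.search_of_relations hG B ht1 ht2 0 (fun o => (hrel o).1)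
    (fun o => by rw [(hrel o).2]; simp) (fun _ => true) (fun _ _ => true)
    (fun _ _ => rfl) (fun _ _ _ _ => rfl) (fun q => decide (q = 0)) (by simp)
  simp only [hN] at hs
  rw [B.hl, hxy] at hs
  simp only [List.map_cons, List.map_nil, Bool.true_and] at hs
  simp only [Nat.cast_ofNat] at hs
  rw [← hcdef] at hs
  simp only [hdeg, decide_true, Bool.true_and] at hh
  rw [hs] at hh
  simp only [Bool.not_true, Bool.false_or] at hh
  exact hh

/-- complex conjugation leaves the non-exceptional characters of distinct degree fixed -/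
theorem conj_fixed [Fintype G] [IsSimpleGroup G] {P : Sylow 7 G} (S : CSplit 7 P) (B : S.BlockSolution 2)
    (he : Nat.card S.act.range = 3) (hV : Nat.card S.V = 1)
    {x : ℤ × Cfsg.IrrCharacter G} (hx : x ∈ B.χs) (hx0 : x.1 ≠ 0)
    (huniq : ∀ z ∈ B.χs, Char.degree z.2.1 = Char.degree x.2.1 → z = x)
    (hne0 : B.sol.f0 ≠ Char.degree x.2.1) (hne1 : Char.degree x.2.1 ≠ 1) (g : G) :
    conj (x.2.1 g) = x.2.1 g := by
  classical
  obtain ⟨ε, k, w, μ, hε, hμ, -, hk, hvec, hvec0, -⟩ := S.exists_structure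
  have := Fintype.ofFinite S.Orb
  have hcard : Fintype.card S.Orb = 2 := by
    have h := Subgroup.card_mul_index S.act.range
    rw [Nat.card_eq_fintype_card (α := (ZMod 7)ˣ), ZMod.card_units 7, he] at h
    rw [← Nat.card_eq_fintype_card]
    show S.act.range.index = 2
    omega
  have hsum := B.hsum x hx
  have hO2 : ∀ o : S.Orb, x.2 ≠ μ o := by
    intro o ho
    have hall : ∀ o', S.vec x.2 o' = k + ε * if o' = o then 1 else 0 := by
      intro o'
      by_cases e : o' = o
      · subst e; rw [ho, hvec0, if_pos rfl, mul_one]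
      · rw [ho, hvec (μ o) o' (fun h' => e (hμ h').symm), hk, if_neg e, mul_zero, add_zero]
    rw [finsum_eq_sum_of_fintype, Finset.sum_congr rfl (fun o' _ => hall o'), Finset.sum_add_distrib,
      Finset.sum_const, nsmul_eq_mul] at hsum
    simp only [mul_ite, mul_one, mul_zero, Finset.sum_ite_eq', Finset.mem_univ, if_true,
      Finset.card_univ] at hsum
    rw [hcard] at hsum
    push_cast at hsum
    rcases hε with h' | h' <;> rw [h'] at hsum <;> omega
  have hconst : ∀ o, S.vec x.2 o = x.1 := by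
    intro o
    rw [finsum_eq_sum_of_fintype, Finset.sum_congr rfl (fun o' _ => hvec x.2 o' (hO2 o')),
      Finset.sum_const, nsmul_eq_mul, Finset.card_univ, hcard] at hsum
    rw [hvec x.2 o (hO2 o)]
    push_cast at hsum
    linarith
  set c : Cfsg.IrrCharacter G := ⟨fun g => conj (x.2.1 g), Char.IsIrrCharacter.conj_apply' x.2.2⟩ with hc
  have hdegc : Char.degree c.1 = Char.degree x.2.1 := by
    simp only [hc, Char.degree, Complex.conj_re]
  have hS1 : ∀ (χ : G → ℂ) (i : ZMod 7), S.Ssum χ i = χ (zpw S.z i) := by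
    intro χ i
    have : Subsingleton S.V := Finite.card_le_one_iff_subsingleton.1 hV.le
    rw [CSplit.Ssum, finsum_eq_single _ (1 : S.V) (fun v hv => absurd (Subsingleton.elim v 1) hv)]
    rw [Subgroup.coe_one, mul_one]
  have hcvec : ∀ o, S.vec c o = x.1 := by
    intro o
    set j : ZMod 7 := ((o.out : (ZMod 7)ˣ) : ZMod 7) with hj
    have hconj : S.rmult c j = S.rmult x.2 (-j) := by
      apply Int.cast_injective (α := ℂ)
      apply mul_left_cancel₀ (mul_ne_zero (Nat.cast_ne_zero.2 (show (7 : ℕ) ≠ 0 by norm_num))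
        (Nat.cast_ne_zero.2 (Nat.card_pos (α := S.V)).ne'))
      rw [S.rmult_spec]
      have h2 := congrArg (starRingEnd ℂ) (S.rmult_spec x.2 (-j))
      simp only [map_mul, map_natCast, map_intCast, map_sum, map_sub, map_one, SmallOrder.conj_stdAddChar,
        neg_neg, neg_mul] at h2
      rw [h2]
      refine Finset.sum_congr rfl fun i _ => ?_
      rw [hS1, hS1]
    show S.rmult c j = _
    rw [hconj, show (-j : ZMod 7) = ((-o.out : (ZMod 7)ˣ) : ZMod 7) by rw [Units.val_neg],
      S.rmult_eq_vec, hconst]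
  have h := B.linear (fun χ => if χ = c then 1 else 0) (x.1 : ℂ) fun o => by
    simp only [ite_mul, one_mul, zero_mul, Finset.sum_ite_eq', Finset.mem_univ, if_true, hcvec]
  have hp : (Char.principalIrr : Cfsg.IrrCharacter G) ≠ c := fun e => hne1 (by
    rw [← hdegc, ← e]
    simp [Char.degree])
  have h0 : B.χ0 ≠ c := fun e => hne0 (by rw [← hdegc, ← e, B.hf0])
  rw [if_neg hp, if_neg h0] at h
  by_contra hg
  have hz : ∀ z ∈ B.χs, z.2 ≠ c := by
    intro z hz e
    have := huniq z hz (by rw [← hdegc, ← e])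
    subst this
    exact hg (congrFun (congrArg Subtype.val e) g).symm
  rw [List.map_congr_left (g := fun _ => (0 : ℂ)) fun z hz' => by rw [if_neg (hz z hz'), mul_zero]] at h
  simp at h
  exact hx0 (by exact_mod_cast h.symm)

end CfsgLib.UThreeRecog
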