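import Cfsg.Agent.Lib.UThreeRecog.Model

/-!
Soundness of the search.
-/

set_option autoImplicit false

namespace CfsgLib.UThreeRecog.Model

/-- `s` is a partial knowledge of `t` -/
def Agrees (s t : List ℕ) : Prop := s.length = 28 ∧ ∀ i < 28, ap s i = 28 ∨ ap s i = ap t i

theorem setp_spec {s t : List ℕ} {u : ℕ} (hu : u < 28) (h : Agrees s t) :
    ∃ s', setp s u (ap t u) = some s' ∧ Agrees s' t ∧ ap s' u ≠ 28 ∨ ap t u = 28 := by
  by_cases ht : ap t u = 28
  · exact ⟨s, Or.inr ht⟩
  obtain ⟨hs, hag⟩ := h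
  unfold setp
  split
  · refine ⟨_, Or.inl ⟨rfl, ⟨by rw [List.length_set, hs], fun i hi => ?_⟩, ?_⟩⟩
    · rcases eq_or_ne u i with rfl | hne
      · right
        simp [ap, List.getD_eq_getElem?_getD, hs, hi]
      · have : ap (s.set u (ap t u)) i = ap s i := by
          simp [ap, List.getD_eq_getElem?_getD, List.getElem?_set_ne hne]
        rw [this]; exact hag i hi
    · have : ap (s.set u (ap t u)) u = ap t u := by simp [ap, List.getD_eq_getElem?_getD, hs, hu]
      rw [this]; exact ht
  · rename_i hne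
    rw [if_pos ((hag u hu).resolve_left hne)]
    exact ⟨s, Or.inl ⟨rfl, ⟨hs, hag⟩, hne⟩⟩

/-- the properties of the involution -/
structure Swap (k : ℕ) (t : List ℕ) : Prop where
  len : t.length = 28
  lt : ∀ i < 28, ap t i < 28
  invol : ∀ i < 28, ap t (ap t i) = i
  equi : ∀ i < 28, ap t (ap mH i) = ap (pw mH k) (ap t i)
  zero : ap t 0 = 27

theorem mH_lt : ∀ i < 28, ap mH i < 28 := by decide +kernel

theorem prop_spec {k : ℕ} {t : List ℕ} (ht : Swap k t) :
    ∀ (n : ℕ) (s : List ℕ) (i : ℕ), i < 28 → Agrees s t → ∃ s', prop k n s i (ap t i) = some s' ∧ Agrees s' t := by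
  intro n
  induction n with
  | zero => exact fun s i _ h => ⟨s, rfl, h⟩
  | succ n ih =>
    intro s i hi h
    have hne : ∀ u < 28, ap t u ≠ 28 := fun u hu => (ht.lt u hu).ne
    obtain ⟨s1, h1⟩ := setp_spec hi h
    obtain ⟨e1, h1', -⟩ := h1.resolve_right (hne i hi)
    obtain ⟨s2, h2⟩ := setp_spec (ht.lt i hi) h1'
    obtain ⟨e2, h2', -⟩ := h2.resolve_right (hne _ (ht.lt i hi))
    rw [ht.invol i hi] at e2
    obtain ⟨s3, e3, h3⟩ := ih s2 (ap mH i) (mH_lt i hi) h2'
    refine ⟨s3, ?_, h3⟩
    rw [prop, e1]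
    simp only
    rw [e2]
    simp only
    rw [← ht.equi i hi]
    exact e3

theorem dfs_spec {k : ℕ} {t : List ℕ} (ht : Swap k t) :
    ∀ (n : ℕ) (s : List ℕ), Agrees s t → dfs k n s = true → good t = true := by
  intro n
  induction n with
  | zero => exact fun s _ h => absurd h (by simp [dfs])
  | succ n ih =>
    intro s hag h
    rw [dfs] at h
    cases hf : free s with
    | none =>
      rw [hf] at h
      have : s = t := by
        refine List.ext_getElem (by rw [hag.1, ht.len]) fun i hi hi' => ?_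
        rw [free, List.find?_eq_none] at hf
        have hne := hf i (List.mem_range.2 (hag.1 ▸ hi))
        have e := (hag.2 i (hag.1 ▸ hi)).resolve_left (by simpa using hne)
        simpa [ap, List.getD_eq_getElem?_getD, hi, hi'] using e
      exact this ▸ h
    | some i =>
      rw [hf] at h
      have hi : i < 28 := List.mem_range.1 (List.mem_of_find?_eq_some hf)
      obtain ⟨s', e, hag'⟩ := prop_spec ht 8 s i hi hag
      simp only [List.all_eq_true, List.mem_range] at h
      have := h _ (ht.lt i hi)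
      rw [e] at this
      exact ih s' hag' this

theorem start_agrees {k : ℕ} {t : List ℕ} (ht : Swap k t) : Agrees start t := by
  refine ⟨by decide, fun i hi => ?_⟩
  have h27 : ap t 27 = 0 := by
    have := ht.invol 0 (by norm_num)
    rwa [ht.zero] at this
  rcases (show i = 0 ∨ i = 27 ∨ (1 ≤ i ∧ i < 27) by omega) with rfl | rfl | ⟨h1, h2⟩
  · exact Or.inr (by rw [ht.zero]; decide)
  · exact Or.inr (by rw [h27]; decide)
  · have : ∀ j < 27, 1 ≤ j → ap start j = 28 := by decide +kernel
    exact Or.inl (this i h2 h1)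

/-- the involution is one of two -/
theorem swap_cases {k : ℕ} (hk : k = 1 ∨ k = 3 ∨ k = 5 ∨ k = 7) {t : List ℕ} (ht : Swap k t)
    (htest : test t = true) : t = t1 ∨ t = t2 := by
  have hd : dfs k 28 start = true := by
    rcases hk with rfl | rfl | rfl | rfl
    exacts [dfs_one, dfs_three, dfs_five, dfs_seven]
  have := dfs_spec ht 28 start (start_agrees ht) hd
  simp only [good, htest, Bool.not_true, Bool.false_or, Bool.or_eq_true, decide_eq_true_eq] at this
  exact this

end CfsgLib.UThreeRecog.Model
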