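import Cfsg.Agent.Lib.UThreeRecog.Frame
import Cfsg.Agent.Lib.UThreeRecog.Search

/-!
A group of order 6048 without elements of order 9, 14, 21 is unique.
-/

set_option autoImplicit false

namespace CfsgLib.UThreeRecog

open Subgroup
open scoped Pointwise

universe u v

variable {G : Type u} [Group G]

namespace Frame

variable (F : Frame G)

/-- the central generator -/
def z : G := F.x * F.y * F.x⁻¹ * F.y⁻¹

theorem z_def : F.z = F.x * F.y * F.x⁻¹ * F.y⁻¹ := rfl

theorem cx : Commute F.x F.z := F.xz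

theorem cy : Commute F.y F.z := F.yz

theorem zthree : F.z ^ 3 = 1 := F.z3

theorem yx : F.y * F.x = F.x * F.y * F.z ^ 2 := by
  have hz2 : F.z ^ 2 = F.z⁻¹ := eq_inv_of_mul_eq_one_left (by rw [← pow_succ]; exact F.zthree)
  rw [hz2, (F.cx.mul_left F.cy).inv_right.eq, z_def]
  group

theorem pow_y_x (n : ℕ) : F.y ^ n * F.x = F.x * F.y ^ n * F.z ^ (2 * n) := by
  induction n with
  | zero => simp
  | succ n ih =>
    calc F.y ^ (n + 1) * F.x = F.y * (F.y ^ n * F.x) := by rw [pow_succ', mul_assoc]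
      _ = (F.y * F.x) * F.y ^ n * F.z ^ (2 * n) := by rw [ih]; group
      _ = F.x * F.y * (F.z ^ 2 * F.y ^ n) * F.z ^ (2 * n) := by rw [F.yx]; group
      _ = F.x * (F.y * F.y ^ n) * (F.z ^ 2 * F.z ^ (2 * n)) := by rw [← (F.cy.pow_pow n 2).eq]; group
      _ = _ := by rw [← pow_succ', ← pow_add]; ring_nf

theorem y_pow_x (n : ℕ) : F.y * F.x ^ n = F.x ^ n * F.y * F.z ^ (2 * n) := by
  induction n with
  | zero => simp
  | succ n ih =>
    calc F.y * F.x ^ (n + 1) = (F.y * F.x ^ n) * F.x := by rw [pow_succ, mul_assoc]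
      _ = F.x ^ n * F.y * (F.z ^ (2 * n) * F.x) := by rw [ih]; group
      _ = F.x ^ n * (F.y * F.x) * F.z ^ (2 * n) := by rw [← (F.cx.pow_right (2 * n)).eq]; group
      _ = (F.x ^ n * F.x) * F.y * (F.z ^ 2 * F.z ^ (2 * n)) := by rw [F.yx]; group
      _ = _ := by rw [← pow_succ, ← pow_add]; ring_nf

theorem hz : F.h * F.z * F.h⁻¹ = F.z⁻¹ := by
  have : F.h * F.z * F.h⁻¹ =
      (F.h * F.x * F.h⁻¹) * (F.h * F.y * F.h⁻¹) * (F.h * F.x * F.h⁻¹)⁻¹ * (F.h * F.y * F.h⁻¹)⁻¹ := by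
    rw [z_def]; group
  rw [this, F.hx, F.hy, z_def]
  group

/-- the element with coordinates -/
def w (a b c : ℕ) : G := F.x ^ a * F.y ^ b * F.z ^ c

theorem w_mod (a b c : ℕ) : F.w (a % 3) (b % 3) (c % 3) = F.w a b c := by
  rw [w, w, ← pow_eq_pow_mod _ F.x3, ← pow_eq_pow_mod _ F.y3, ← pow_eq_pow_mod _ F.zthree]

theorem x_w (a b c : ℕ) : F.x * F.w a b c = F.w (a + 1) b c := by
  simp only [w]; rw [pow_succ']; group

theorem z_w (a b c : ℕ) : F.z * F.w a b c = F.w a b (c + 1) := by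
  simp only [w]
  rw [← mul_assoc, ((F.cx.pow_left a).mul_left (F.cy.pow_left b)).symm.eq, mul_assoc, ← pow_succ']

theorem y_w (a b c : ℕ) : F.y * F.w a b c = F.w a (b + 1) (c + 2 * a) := by
  simp only [w]
  calc F.y * (F.x ^ a * F.y ^ b * F.z ^ c) = (F.y * F.x ^ a) * F.y ^ b * F.z ^ c := by group
    _ = F.x ^ a * F.y * (F.z ^ (2 * a) * F.y ^ b) * F.z ^ c := by rw [F.y_pow_x]; group
    _ = F.x ^ a * (F.y * F.y ^ b) * (F.z ^ (2 * a) * F.z ^ c) := by
        rw [← (F.cy.pow_pow b (2 * a)).eq]; group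
    _ = _ := by rw [← pow_succ', ← pow_add, add_comm (2 * a)]

theorem h_w {a b c : ℕ} (hb : b < 3) :
    F.h * F.w a b c * F.h⁻¹ = F.w b (a + b) (2 * c + 2 * (a * b) + 2 * (b * (b - 1) / 2)) := by
  have hz2 : F.z⁻¹ = F.z ^ 2 := (eq_inv_of_mul_eq_one_left (by rw [← pow_succ]; exact F.zthree)).symm
  have e : F.h * F.w a b c * F.h⁻¹ = F.y ^ a * (F.x * F.y) ^ b * F.z ^ (2 * c) := by
    calc F.h * F.w a b c * F.h⁻¹ =
          (F.h * F.x ^ a * F.h⁻¹) * (F.h * F.y ^ b * F.h⁻¹) * (F.h * F.z ^ c * F.h⁻¹) := by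
            simp only [w]; group
      _ = F.y ^ a * (F.x * F.y) ^ b * (F.z⁻¹) ^ c := by
            rw [← conj_pow, ← conj_pow, ← conj_pow, F.hx, F.hy, F.hz]
      _ = _ := by rw [hz2, pow_mul]
  rw [e]
  rcases (show b = 0 ∨ b = 1 ∨ b = 2 by omega) with rfl | rfl | rfl
  · simp [w]
  · simp only [w, pow_one, mul_one, Nat.sub_self, mul_zero, Nat.zero_div, add_zero]
    calc F.y ^ a * (F.x * F.y) * F.z ^ (2 * c) = (F.y ^ a * F.x) * F.y * F.z ^ (2 * c) := by group
      _ = F.x * F.y ^ a * (F.z ^ (2 * a) * F.y) * F.z ^ (2 * c) := by rw [F.pow_y_x]; group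
      _ = F.x * (F.y ^ a * F.y) * (F.z ^ (2 * a) * F.z ^ (2 * c)) := by
          rw [← (F.cy.pow_right (2 * a)).eq]; group
      _ = _ := by rw [← pow_succ, ← pow_add, add_comm (2 * a)]
  · simp only [w]
    rw [pow_two (F.x * F.y)]
    calc F.y ^ a * (F.x * F.y * (F.x * F.y)) * F.z ^ (2 * c) =
          (F.y ^ a * F.x) * F.y * F.x * F.y * F.z ^ (2 * c) := by group
      _ = F.x * F.y ^ a * (F.z ^ (2 * a) * (F.y * F.x * F.y)) * F.z ^ (2 * c) := by rw [F.pow_y_x]; group
      _ = F.x * (F.y ^ a * F.y) * F.x * F.y * (F.z ^ (2 * a) * F.z ^ (2 * c)) := by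
          rw [← (((F.cy.mul_left F.cx).mul_left F.cy).pow_right (2 * a)).eq]; group
      _ = F.x * (F.y ^ (a + 1) * F.x) * F.y * F.z ^ (2 * a + 2 * c) := by rw [← pow_succ, ← pow_add]; group
      _ = F.x * F.x * F.y ^ (a + 1) * (F.z ^ (2 * (a + 1)) * F.y) * F.z ^ (2 * a + 2 * c) := by
          rw [F.pow_y_x]; group
      _ = (F.x * F.x) * (F.y ^ (a + 1) * F.y) * (F.z ^ (2 * (a + 1)) * F.z ^ (2 * a + 2 * c)) := by
          rw [← (F.cy.pow_right (2 * (a + 1))).eq]; group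
      _ = _ := by rw [← pow_succ, ← pow_add, ← pow_two]; ring_nf

theorem xT' : F.x • F.T = F.T := Sylow.smul_eq_iff_mem_normalizer.2 (le_normalizer F.xT)

theorem yT' : F.y • F.T = F.T := Sylow.smul_eq_iff_mem_normalizer.2 (le_normalizer F.yT)

theorem zT' : F.z • F.T = F.T := Sylow.smul_eq_iff_mem_normalizer.2 (le_normalizer
  (mul_mem (mul_mem (mul_mem F.xT F.yT) (inv_mem F.xT)) (inv_mem F.yT)))

theorem wT (a b c : ℕ) : F.w a b c • F.T = F.T := by
  have : F.w a b c ∈ MulAction.stabilizer G F.T :=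
    mul_mem (mul_mem (pow_mem F.xT' a) (pow_mem F.yT' b)) (pow_mem F.zT' c)
  exact this

theorem tQ : F.t • F.Q = F.T := by rw [← F.swap, ← mul_smul, F.invol, one_smul]

theorem wQ_ne (a b c : ℕ) : F.w a b c • F.Q ≠ F.T := fun e => F.ne (by
  have := congrArg ((F.w a b c)⁻¹ • ·) e
  simp only [inv_smul_smul] at this
  rw [this, inv_smul_eq_iff, F.wT])

/-- the points -/
def pnt (i : ℕ) : Sylow 3 G := if i < 27 then F.w (i / 9) (i / 3 % 3) (i % 3) • F.Q else F.T

theorem pnt_pt (a b c : ℕ) : F.pnt (Model.pt a b c) = F.w a b c • F.Q := by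
  rw [pnt, if_pos (show Model.pt a b c < 27 by unfold Model.pt; omega),
    show Model.pt a b c / 9 = a % 3 by unfold Model.pt; omega,
    show Model.pt a b c / 3 % 3 = b % 3 by unfold Model.pt; omega,
    show Model.pt a b c % 3 = c % 3 by unfold Model.pt; omega, F.w_mod]

theorem pnt_bijective : Function.Bijective fun i : Fin 28 => F.pnt i := by
  refine ⟨fun i j e => ?_, fun R => ?_⟩
  · simp only [pnt] at e
    by_cases hi : (i : ℕ) < 27 <;> by_cases hj : (j : ℕ) < 27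
    · rw [if_pos hi, if_pos hj] at e
      have := F.inj _ (by omega) _ (by omega) _ (by omega) _ (by omega) _ (by omega) _ (by omega) e
      exact Fin.ext (by omega)
    · rw [if_pos hi, if_neg hj] at e; exact absurd e (F.wQ_ne _ _ _)
    · rw [if_neg hi, if_pos hj] at e; exact absurd e.symm (F.wQ_ne _ _ _)
    · exact Fin.ext (by omega)
  · by_cases hR : R = F.T
    · exact ⟨27, by simp [pnt, hR]⟩
    · obtain ⟨a, ha, b, hb, c, hc, e⟩ := F.surj R hR
      refine ⟨⟨Model.pt a b c, by unfold Model.pt; omega⟩, ?_⟩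
      simp only [F.pnt_pt]
      exact e

/-- the numbering -/
noncomputable def num : Fin 28 ≃ Sylow 3 G := Equiv.ofBijective _ F.pnt_bijective

/-- the number of a point -/
noncomputable def idx (R : Sylow 3 G) : ℕ := (F.num.symm R : Fin 28)

theorem idx_lt (R : Sylow 3 G) : F.idx R < 28 := (F.num.symm R).isLt

theorem pnt_idx (R : Sylow 3 G) : F.pnt (F.idx R) = R := F.num.apply_symm_apply R

theorem idx_pnt {i : ℕ} (hi : i < 28) : F.idx (F.pnt i) = i :=
  congrArg Fin.val (F.num.symm_apply_apply ⟨i, hi⟩)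

/-- the list of an element -/
noncomputable def lst (g : G) : List ℕ := (List.range 28).map fun i => F.idx (g • F.pnt i)

theorem ap_lst (g : G) {i : ℕ} (hi : i < 28) : Model.ap (F.lst g) i = F.idx (g • F.pnt i) := by
  simp [lst, Model.ap, List.getD_eq_getElem?_getD, hi]

theorem lst_eq {g : G} {l : List ℕ} (hl : l.length = 28)
    (h : ∀ i < 28, Model.ap l i < 28 ∧ g • F.pnt i = F.pnt (Model.ap l i)) : F.lst g = l := by
  refine List.ext_getElem (by simp [lst, hl]) fun i hi hi' => ?_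
  obtain ⟨h1, h2⟩ := h i (hl ▸ hi')
  have e : Model.ap l i = l[i] := by simp [Model.ap, List.getD_eq_getElem?_getD, hi']
  simp only [lst, List.getElem_map, List.getElem_range]
  rw [h2, e, F.idx_pnt (e ▸ h1)]

theorem lst_mul (g g' : G) : F.lst (g * g') = Model.mul (F.lst g) (F.lst g') := by
  simp only [lst, Model.mul, List.map_map]
  refine List.map_congr_left fun i hi => ?_
  show F.idx ((g * g') • F.pnt i) = Model.ap (F.lst g) (F.idx (g' • F.pnt i))
  rw [F.ap_lst g (F.idx_lt _), F.pnt_idx, mul_smul]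

theorem lst_one : F.lst 1 = Model.mI := by
  refine F.lst_eq (by decide) fun i hi => ?_
  have : Model.ap Model.mI i = i := by simp [Model.mI, Model.ap, List.getD_eq_getElem?_getD, hi]
  rw [this, one_smul]; exact ⟨hi, rfl⟩

theorem lst_pow {g : G} {l : List ℕ} (h : F.lst g = l) (n : ℕ) : F.lst (g ^ n) = Model.pw l n := by
  induction n with
  | zero => rw [pow_zero, F.lst_one]; rfl
  | succ n ih => rw [pow_succ', F.lst_mul, ih, h]; rfl

theorem lst_dig {g : G} (f : ℕ → ℕ → ℕ → ℕ) (hT : g • F.T = F.T)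
    (h : ∀ i < 27, f (i / 9) (i / 3 % 3) (i % 3) < 27 ∧
      g • (F.w (i / 9) (i / 3 % 3) (i % 3) • F.Q) = F.pnt (f (i / 9) (i / 3 % 3) (i % 3))) :
    F.lst g = Model.ofDig f := by
  refine F.lst_eq (by simp [Model.ofDig]) fun i hi => ?_
  rcases (show i < 27 ∨ i = 27 by omega) with hi' | rfl
  · have e : Model.ap (Model.ofDig f) i = f (i / 9) (i / 3 % 3) (i % 3) := by
      simp [Model.ap, Model.ofDig, List.getD_eq_getElem?_getD, List.getElem?_append, hi']
    rw [e]
    refine ⟨(h i hi').1.trans (by norm_num), ?_⟩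
    rw [show F.pnt i = F.w (i / 9) (i / 3 % 3) (i % 3) • F.Q from if_pos hi']
    exact (h i hi').2
  · have e : Model.ap (Model.ofDig f) 27 = 27 := by
      simp [Model.ap, Model.ofDig, List.getD_eq_getElem?_getD]
    rw [e]
    refine ⟨by norm_num, ?_⟩
    rw [show F.pnt 27 = F.T from if_neg (by norm_num)]
    exact hT

theorem pt_lt (a b c : ℕ) : Model.pt a b c < 27 := by unfold Model.pt; omega

theorem lst_x : F.lst F.x = Model.mX :=
  F.lst_dig _ F.xT' fun i hi => ⟨pt_lt _ _ _, by rw [← mul_smul, F.x_w, F.pnt_pt]⟩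

theorem lst_y : F.lst F.y = Model.mY :=
  F.lst_dig _ F.yT' fun i hi => ⟨pt_lt _ _ _, by rw [← mul_smul, F.y_w, F.pnt_pt]⟩

theorem lst_z : F.lst F.z = Model.mZ :=
  F.lst_dig _ F.zT' fun i hi => ⟨pt_lt _ _ _, by rw [← mul_smul, F.z_w, F.pnt_pt]⟩

theorem lst_h : F.lst F.h = Model.mH :=
  F.lst_dig _ F.hT fun i hi => ⟨pt_lt _ _ _, by
    rw [F.pnt_pt, ← F.h_w (Nat.mod_lt _ (by norm_num)), mul_smul, mul_smul, inv_smul_eq_iff.2 F.hQ.symm]⟩

theorem lst_winv (q : ℕ) : F.lst (F.w (q / 9 % 3) (q / 3 % 3) (q % 3))⁻¹ = Model.linv q := by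
  have hi : ∀ (g : G) (a : ℕ), g ^ 3 = 1 → a < 3 → (g ^ a)⁻¹ = g ^ (2 * a % 3) := fun g a hg ha => by
    rw [← pow_eq_pow_mod _ hg, inv_eq_iff_mul_eq_one, ← pow_add, show a + 2 * a = 3 * a by ring, pow_mul, hg,
      one_pow]
  rw [w, mul_inv_rev, mul_inv_rev, hi _ _ F.zthree (by omega), hi _ _ F.y3 (by omega), hi _ _ F.x3 (by omega),
    F.lst_mul, F.lst_mul, F.lst_pow F.lst_z, F.lst_pow F.lst_y, F.lst_pow F.lst_x, Model.linv]
  congr 3
  omega

theorem pow_h {g : G} (h1 : g • F.T = F.T) (h2 : g • F.Q = F.Q) : ∃ m < 8, g = F.h ^ m := by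
  have h8 : F.h ^ 8 = 1 := F.order ▸ pow_orderOf_eq_one F.h
  obtain ⟨i, hi⟩ := mem_zpowers_iff.1 (F.stab g h1 h2)
  refine ⟨(i % 8).toNat, by omega, ?_⟩
  rw [← hi, ← zpow_natCast, Int.toNat_of_nonneg (by omega)]
  conv_lhs => rw [← Int.emod_add_mul_ediv i 8, zpow_add, zpow_mul, show (8 : ℤ) = ((8 : ℕ) : ℤ) from rfl,
    zpow_natCast, h8, one_zpow, mul_one]
  rfl

theorem inB_of {g : G} (hg : g • F.T = F.T) : Model.inB (F.lst g) = true := by
  let r := Model.ap (F.lst g) 0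
  have hr : r = F.idx (g • F.Q) := by
    rw [show r = _ from F.ap_lst g (by norm_num), show F.pnt 0 = F.Q by simp [pnt, w]]
  have hr28 : r < 28 := hr ▸ F.idx_lt _
  have hp : F.pnt r = g • F.Q := by rw [hr, F.pnt_idx]
  have hr27 : r < 27 := by
    by_contra hn
    rw [pnt, if_neg hn] at hp
    exact F.ne ((smul_left_cancel g (hp.symm.trans hg.symm)))
  rw [pnt, if_pos hr27] at hp
  obtain ⟨m, hm, e⟩ := F.pow_h (g := (F.w (r / 9) (r / 3 % 3) (r % 3))⁻¹ * g)
    (by rw [mul_smul, hg, inv_smul_eq_iff, F.wT]) (by rw [mul_smul, ← hp, inv_smul_smul])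
  have hl := congrArg F.lst e
  rw [F.lst_mul, show r / 9 = r / 9 % 3 by omega, F.lst_winv, F.lst_pow F.lst_h] at hl
  simp only [Model.inB, List.any_eq_true, decide_eq_true_eq]
  exact ⟨m, by simp only [List.mem_cons, List.not_mem_nil, or_false]; omega, hl⟩

theorem test_t : Model.test (F.lst F.t) = true := by
  obtain ⟨g, hgdef⟩ : ∃ g, g = F.t * (F.x * F.t) := ⟨_, rfl⟩
  have hg : Model.mul (F.lst F.t) (Model.mul Model.mX (F.lst F.t)) = F.lst g := by
    rw [hgdef, F.lst_mul, F.lst_mul, F.lst_x]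
  have hq : Model.ap (F.lst g) 27 = F.idx (g • F.T) := by
    rw [F.ap_lst g (by norm_num), show F.pnt 27 = F.T from if_neg (by norm_num)]
  simp only [Model.test, hg]
  split
  · rename_i h27
    refine F.inB_of ?_
    rw [← F.pnt_idx (g • F.T), ← hq, h27]
    exact if_neg (by norm_num)
  · rename_i h27
    have hlt : Model.ap (F.lst g) 27 < 27 := by
      have := F.idx_lt (g • F.T); omega
    generalize hqd : Model.ap (F.lst g) 27 = q at *
    have hp : F.pnt q = g • F.T := by rw [hq, F.pnt_idx]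
    rw [pnt, if_pos hlt] at hp
    rw [← F.lst_winv, ← F.lst_mul, ← F.lst_mul, show q / 9 % 3 = q / 9 by omega]
    refine F.inB_of ?_
    rw [mul_smul, mul_smul, ← hp, inv_smul_smul, F.tQ]

variable [Finite G]

theorem exists_k : ∃ k, (k = 1 ∨ k = 3 ∨ k = 5 ∨ k = 7) ∧ Model.Swap k (F.lst F.t) := by
  have htinv : F.t⁻¹ = F.t := inv_eq_of_mul_eq_one_right F.invol
  obtain ⟨k, hk, e⟩ := F.pow_h (g := F.t * F.h * F.t)
    (by rw [mul_smul, mul_smul, F.swap, F.hQ, F.tQ]) (by rw [mul_smul, mul_smul, F.tQ, F.hT, F.swap])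
  have hodd : k = 1 ∨ k = 3 ∨ k = 5 ∨ k = 7 := by
    have h8 := F.order
    by_contra hcon
    have h4 : (F.h ^ k) ^ 4 = 1 := by
      rw [← pow_mul]; refine orderOf_dvd_iff_pow_eq_one.1 ?_
      rw [h8]; omega
    rw [← e] at h4
    nth_rewrite 2 [← htinv] at h4
    rw [conj_pow, conj_eq_one_iff] at h4
    have := Nat.le_of_dvd (by norm_num) (orderOf_dvd_of_pow_eq_one h4)
    omega
  have hth : F.t * F.h = F.h ^ k * F.t := by rw [← e, mul_assoc _ F.t F.t, F.invol, mul_one]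
  refine ⟨k, hodd, ⟨by simp [lst], fun i hi => by rw [F.ap_lst _ hi]; exact F.idx_lt _, fun i hi => ?_,
    fun i hi => ?_, ?_⟩⟩
  · rw [F.ap_lst _ hi, F.ap_lst _ (F.idx_lt _), F.pnt_idx, ← mul_smul, F.invol, one_smul, F.idx_pnt hi]
  · rw [← F.lst_h, F.ap_lst _ hi, F.ap_lst _ (F.idx_lt _), F.pnt_idx, F.ap_lst F.t hi,
      ← F.lst_pow rfl k, F.ap_lst _ (F.idx_lt _), F.pnt_idx, ← mul_smul, hth, mul_smul]
  · rw [F.ap_lst _ (by norm_num), show F.pnt 0 = F.Q by simp [pnt, w], F.tQ,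
      show F.T = F.pnt 27 from (if_neg (by norm_num)).symm, F.idx_pnt (by norm_num)]

theorem closure_eq_top : closure {F.x, F.y, F.h, F.t} = ⊤ := by
  set K := closure {F.x, F.y, F.h, F.t}
  have hx : F.x ∈ K := subset_closure (by simp)
  have hy : F.y ∈ K := subset_closure (by simp)
  have hh : F.h ∈ K := subset_closure (by simp)
  have ht : F.t ∈ K := subset_closure (by simp)
  have hz : F.z ∈ K := mul_mem (mul_mem (mul_mem hx hy) (inv_mem hx)) (inv_mem hy)
  have hw : ∀ a b c, F.w a b c ∈ K := fun a b c =>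
    mul_mem (mul_mem (pow_mem hx a) (pow_mem hy b)) (pow_mem hz c)
  have hfix : ∀ g : G, g • F.T = F.T → g ∈ K := by
    intro g hg
    obtain ⟨a, -, b, -, c, -, e⟩ := F.surj (g • F.Q) fun e => F.ne (smul_left_cancel g (e.trans hg.symm))
    change F.w a b c • F.Q = g • F.Q at e
    have hm := F.stab ((F.w a b c)⁻¹ * g) (by rw [mul_smul, hg, inv_smul_eq_iff, F.wT])
      (by rw [mul_smul, ← e, inv_smul_smul])
    rw [← mul_inv_cancel_left (F.w a b c) g]
    exact mul_mem (hw a b c) (zpowers_le.2 hh hm)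
  refine eq_top_iff.2 fun g _ => ?_
  by_cases hg : g • F.T = F.T
  · exact hfix g hg
  · obtain ⟨a, -, b, -, c, -, e⟩ := F.surj (g • F.T) hg
    change F.w a b c • F.Q = g • F.T at e
    have hm := hfix ((F.w a b c * F.t)⁻¹ * g) (by
      rw [mul_smul, inv_smul_eq_iff, mul_smul, F.swap, e])
    rw [← mul_inv_cancel_left (F.w a b c * F.t) g]
    exact mul_mem (mul_mem (hw a b c) ht) hm

/-- generators with known lists -/
theorem exists_gen : ∃ t : G, F.lst t = Model.t1 ∧ closure {F.x, F.y, F.h, t} = ⊤ := by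
  obtain ⟨k, hk, hsw⟩ := F.exists_k
  rcases Model.swap_cases hk hsw F.test_t with e | e
  · exact ⟨F.t, e, F.closure_eq_top⟩
  · refine ⟨F.h ^ 4 * F.t, by rw [F.lst_mul, F.lst_pow F.lst_h, e, Model.t2_eq], eq_top_iff.2 ?_⟩
    rw [← F.closure_eq_top, closure_le]
    intro g hg
    simp only [Set.mem_insert_iff, Set.mem_singleton_iff] at hg
    rcases hg with rfl | rfl | rfl | rfl
    · exact subset_closure (by simp)
    · exact subset_closure (by simp)
    · exact subset_closure (by simp)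
    · have : F.t = (F.h ^ 4)⁻¹ * (F.h ^ 4 * F.t) := (inv_mul_cancel_left _ _).symm
      rw [this]
      exact mul_mem (inv_mem (pow_mem (subset_closure (by simp)) 4)) (subset_closure (by simp))

include F in
theorem injective_toPerm [IsSimpleGroup G] :
    Function.Injective (MulAction.toPermHom G (Sylow 3 G)) := by
  rw [← MonoidHom.ker_eq_bot_iff]
  refine (Subgroup.Normal.eq_bot_or_eq_top (MonoidHom.normal_ker _)).resolve_right fun e => ?_
  have := MonoidHom.mem_ker.1 (e ▸ Subgroup.mem_top F.t : F.t ∈ (MulAction.toPermHom G (Sylow 3 G)).ker)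
  exact F.ne (F.swap ▸ by simpa using Equiv.Perm.congr_fun this F.T)

end Frame

/-- Uniqueness. -/
theorem nonempty_mulEquiv {G : Type u} [Group G] [Finite G] [IsSimpleGroup G] {G' : Type v} [Group G']
    [Finite G'] [IsSimpleGroup G'] (hN : Nat.card G = 6048) (h : Sparse G) (hN' : Nat.card G' = 6048)
    (h' : Sparse G') : Nonempty (G ≃* G') := by
  obtain ⟨F⟩ := exists_frame hN h
  obtain ⟨F'⟩ := exists_frame hN' h'
  obtain ⟨t, ht, hgen⟩ := F.exists_gen
  obtain ⟨t', ht', hgen'⟩ := F'.exists_gen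
  let E : Sylow 3 G ≃ Sylow 3 G' := F.num.symm.trans F'.num
  let φ := E.permCongrHom.toMonoidHom.comp (MulAction.toPermHom G (Sylow 3 G))
  let ψ := MulAction.toPermHom G' (Sylow 3 G')
  have hcorr : ∀ g g', F.lst g = F'.lst g' → φ g = ψ g' := by
    intro g g' e
    refine Equiv.ext fun R => ?_
    show E (g • E.symm R) = g' • R
    obtain ⟨i, rfl⟩ := F'.num.surjective R
    have e1 : E.symm (F'.num i) = F.num i := by simp [E]
    rw [e1]
    have e2 : F.idx (g • F.pnt i) = F'.idx (g' • F'.pnt i) := by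
      have := congrArg (fun l => Model.ap l i) e
      simpa only [F.ap_lst g i.isLt, F'.ap_lst g' i.isLt] using this
    show F'.num (F.num.symm (g • F.num i)) = g' • F'.num i
    rw [← F'.num.apply_symm_apply (g' • F'.num i)]
    exact congrArg F'.num (Fin.ext e2)
  have hφ : Function.Injective φ := E.permCongrHom.injective.comp F.injective_toPerm
  have hrange : φ.range = ψ.range := by
    rw [MonoidHom.range_eq_map, MonoidHom.range_eq_map, ← hgen, ← hgen', MonoidHom.map_closure,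
      MonoidHom.map_closure]
    simp only [Set.image_insert_eq, Set.image_singleton,
      hcorr _ _ (F.lst_x.trans F'.lst_x.symm), hcorr _ _ (F.lst_y.trans F'.lst_y.symm),
      hcorr _ _ (F.lst_h.trans F'.lst_h.symm), hcorr _ _ (ht.trans ht'.symm)]
  exact ⟨((MonoidHom.ofInjective hφ).trans (MulEquiv.subgroupCongr hrange)).trans
    (MonoidHom.ofInjective F'.injective_toPerm).symm⟩

end CfsgLib.UThreeRecog
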