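import Cfsg.Agent.Lib.SmallOrder.Options

/-!
Two orders without a suitable block solution at the prime seven. The search for the values at an involution is
done from both ends.
-/

set_option autoImplicit false

namespace CfsgLib.UThreeRecog

open CfsgLib.SmallOrder

/-- the values at the involution allowed for the one exceptional multiset of degrees -/
def valuesOK : Bool :=
  (bVals 8).all fun a => (bVals 36).all fun c1 => (bVals 36).all fun c2 =>
    (bVals 27).all fun d1 => (bVals 27).all fun d2 =>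
      !(decide (-12096 - 1512 * (a * a) - 336 * (c1 * c1 + c2 * c2) +
        448 * (d1 * d1 + d2 * d2 + (1 + a + c1 + c2 - d1 - d2) * (1 + a + c1 + c2 - d1 - d2)) = 0))

theorem valuesOK_true : valuesOK = true := by decide +kernel

theorem no_values {a c1 c2 d1 d2 d3 : ℤ} (ha : a ∈ bVals 8) (h1 : c1 ∈ bVals 36) (h2 : c2 ∈ bVals 36)
    (h3 : d1 ∈ bVals 27) (h4 : d2 ∈ bVals 27) (hs : -1 - a - c1 - c2 + d1 + d2 + d3 = 0)
    (hq : -12096 - 1512 * (a * a) - 336 * (c1 * c1 + c2 * c2) + 448 * (d1 * d1 + d2 * d2 + d3 * d3) = 0) :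
    False := by
  have h := valuesOK_true
  simp only [valuesOK, List.all_eq_true, Bool.not_eq_true', decide_eq_false_iff_not] at h
  refine h a ha c1 h1 c2 h2 d1 h3 d2 h4 ?_
  rw [show 1 + a + c1 + c2 - d1 - d2 = d3 by linarith]
  exact hq

/-- the three orders in which that multiset occurs -/
def badLists : List (List (ℤ × ℕ)) :=
  [[(-1, 8), (-1, 36), (-1, 36), (1, 27), (1, 27), (1, 27)],
   [(-1, 36), (-1, 36), (1, 27), (1, 27), (1, 27), (-1, 8)],
   [(1, 27), (-1, 36), (-1, 36), (1, 27), (1, 27), (-1, 8)]]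

/-- equality of lists of weighted degrees -/
def beqL : List (ℤ × ℕ) → List (ℤ × ℕ) → Bool
  | [], [] => true
  | (w, f) :: l, (w', f') :: l' => Nat.beq f f' && (decide (w = w') && beqL l l')
  | _, _ => false

theorem eq_of_beqL : ∀ {l l' : List (ℤ × ℕ)}, beqL l l' = true → l = l'
  | [], [], _ => rfl
  | (w, f) :: l, (w', f') :: l', h => by
    simp only [beqL, Bool.and_eq_true, Nat.beq_eq, decide_eq_true_eq] at h
    rw [h.1, h.2.1, eq_of_beqL h.2.2]
  | [], _ :: _, h => by simp [beqL] at h
  | _ :: _, [], h => by simp [beqL] at h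

theorem bad_false {l : List (ℤ × ℕ)} (hl : l ∈ badLists) :
    valSearch 12096 (fun _ _ => true) l (-1) (-((12096 : ℕ) : ℤ)) (fun v => decide (v = 0)) = false := by
  rw [Bool.eq_false_iff]
  intro h
  simp only [badLists, List.mem_cons, List.not_mem_nil, or_false] at hl
  rcases hl with rfl | rfl | rfl <;>
    simp only [valSearch, List.any_eq_true, Bool.true_and, Bool.and_eq_true, decide_eq_true_eq] at h <;>
    obtain ⟨x0, h0, x1, h1, x2, h2, x3, h3, x4, h4, x5, h5, hs, hq⟩ := h <;>
    norm_num at hs hq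
  · exact no_values (a := x0) (c1 := x1) (c2 := x2) (d1 := x3) (d2 := x4) (d3 := x5) h0 h1 h2 h3 h4
      (by linarith) (by linarith)
  · exact no_values (a := x5) (c1 := x0) (c2 := x1) (d1 := x2) (d2 := x3) (d3 := x4) h5 h0 h1 h2 h3
      (by linarith) (by linarith)
  · exact no_values (a := x5) (c1 := x1) (c2 := x2) (d1 := x0) (d2 := x3) (d3 := x4) h5 h1 h2 h0 h3
      (by linarith) (by linarith)

/-- the second search may succeed -/
def meetSearch (l : List (ℤ × ℕ)) : Bool := !(badLists.any fun b => beqL l b)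

theorem meetSearch_of (l : List (ℤ × ℕ))
    (h : valSearch 12096 (fun _ _ => true) l (-1) (-((12096 : ℕ) : ℤ)) (fun v => decide (v = 0)) = true) :
    meetSearch l = true := by
  simp only [meetSearch, Bool.not_eq_true', List.any_eq_false]
  intro b hb hc
  rw [eq_of_beqL hc, bad_false hb] at h
  exact Bool.false_ne_true h

/-- a weaker test, evaluated faster -/
def solTestMeet (p c e n t : ℕ) (W0 : ℤ) (f0 : ℕ) (l : List (ℤ × ℕ)) : Bool :=
  Nat.beq (c % 2) 0 || Nat.beq (e % 2) 1 ||
    (tSearch 12096 p c e n t W0 f0 l (invTargetStrict 12096 p c e n) ||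
      (tSearch 12096 p c e n t W0 f0 l (invTarget p c e n) && meetSearch ((W0, f0) :: l)))

theorem solTestMeet_of {p c e n t : ℕ} {W0 : ℤ} {f0 : ℕ} {l : List (ℤ × ℕ)}
    (h : solTest 12096 p c e n t W0 f0 l = true) : solTestMeet p c e n t W0 f0 l = true := by
  simp only [solTest, solTestMeet, Bool.or_eq_true, Bool.and_eq_true] at h ⊢
  rcases h with h | h | ⟨h1, h2⟩
  · exact Or.inl h
  · exact Or.inr (Or.inl h)
  · exact Or.inr (Or.inr ⟨h2, meetSearch_of _ h1⟩)

/-- the candidates searched -/
def candList (N p c e R : ℕ) : List (ℤ × ℕ) :=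
  (degCands N p e R).filter fun x => Nat.ble (max e (degBound p c)) x.2

/-- no solution passes the weaker test -/
def noSolutionMeet (p c e t n R : ℕ) : Bool :=
  let N : ℕ := 12096
  Nat.blt N ((R + 1) * (R + 1)) &&
  [(1 : ℤ), -1].all fun ε => (intBox (e + 1)).all fun k =>
    let S : ℤ := (e : ℤ) - 1 - (t : ℤ) * (k * k) - 2 * ε * k
    decide (S < 0) || (Nat.beq t 1 && decide (k + ε = 0)) || (degFs N (max e (degBound p c)) R).all fun f0 =>
      !(decide (((f0 : ℤ) - ((e : ℤ) * ε - k)) % (p : ℤ) = 0) && Nat.ble (1 + t * (f0 * f0)) N &&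
        degSearchP (candList N p c e R) S.toNat
          (1 - ((t : ℤ) * k + ε) * f0) (N - (1 + t * (f0 * f0))) []
          fun l => solTestMeet p c e n t ((t : ℤ) * k + ε) f0 l)

theorem degSearchP_mono {Q Q' : List (ℤ × ℕ) → Bool} (hQ : ∀ l, Q l = true → Q' l = true) :
    ∀ (cands : List (ℤ × ℕ)) (S : ℕ) (T : ℤ) (B : ℕ) (acc : List (ℤ × ℕ)),
      degSearchP cands S T B acc Q = true → degSearchP cands S T B acc Q' = true
  | [], S, T, B, acc, h => by
    simp only [degSearchP, Bool.and_eq_true] at h ⊢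
    exact ⟨h.1, h.2.1, hQ _ h.2.2⟩
  | (w, f) :: rest, S, T, B, acc, h => by
    simp only [degSearchP, List.any_eq_true, Bool.and_eq_true] at h ⊢
    obtain ⟨m, hm, h1, h2⟩ := h
    exact ⟨m, hm, h1, degSearchP_mono hQ rest _ _ _ _ h2⟩

theorem noSolution_of_meet {p c e t n R : ℕ} (h : noSolutionMeet p c e t n R = true) :
    noSolution 12096 p c e t n R = true := by
  simp only [noSolutionMeet, noSolution, candList, Bool.and_eq_true, Bool.or_eq_true, List.all_eq_true,
    Bool.not_eq_true', Bool.and_eq_false_iff] at h ⊢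
  refine ⟨h.1, fun ε hε k hk => ?_⟩
  rcases h.2 ε hε k hk with h' | h'
  · exact Or.inl h'
  refine Or.inr fun f0 hf0 => ?_
  rcases h' f0 hf0 with h'' | h''
  · exact Or.inl h''
  right
  rw [Bool.eq_false_iff] at h'' ⊢
  exact fun hc => h'' (degSearchP_mono (fun l hl => solTestMeet_of hl) _ _ _ _ _ hc)

theorem excluded_4032 : orderExcluded 4032 = true := by decide +kernel

theorem excludedMeet_12096 : noSolutionMeet 7 1 6 1 288 109 = true := by decide +kernel

theorem excluded_12096 : noSolution 12096 7 1 6 1 288 109 = true := noSolution_of_meet excludedMeet_12096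

end CfsgLib.UThreeRecog
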