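import Cfsg.Agent.Lib.UThreeRecog.Sylow
import Mathlib.GroupTheory.NoncommCoprod

/-!
The Sylow 3-subgroups are not abelian; their centres and their intersections.
-/

set_option autoImplicit false

namespace CfsgLib.UThreeRecog

open Subgroup CfsgLib.SmallOrder

universe u

/-- digit of a point of the three dimensional space over three elements, numbered `9a+3b+c` -/
def dig (p : ℕ) : ℕ × ℕ × ℕ := (p / 9, p / 3 % 3, p % 3)

/-- the number of the sum of two points -/
def padd (p q : ℕ) : ℕ :=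
  9 * (((dig p).1 + (dig q).1) % 3) + 3 * (((dig p).2.1 + (dig q).2.1) % 3) + ((dig p).2.2 + (dig q).2.2) % 3

/-- the representative of a line -/
def line (p : ℕ) : ℕ := min p (padd p p)

/-- the representatives of the lines -/
def order : List ℕ := [1, 3, 4, 5, 9, 10, 11, 12, 13, 14, 15, 16, 17]

/-- the planes, as quadruples of line representatives -/
def planes : List (ℕ × ℕ × ℕ × ℕ) :=
  [(1, 3, 4, 5), (1, 9, 10, 11), (1, 12, 13, 14), (1, 15, 16, 17), (3, 9, 12, 15), (3, 10, 13, 16),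
   (3, 11, 14, 17), (4, 9, 13, 17), (4, 10, 14, 15), (4, 11, 12, 16), (5, 9, 14, 16), (5, 10, 12, 17),
   (5, 11, 13, 15)]

theorem planes_ok : planes.all (fun q =>
    Nat.beq (line (padd q.1 q.2.1)) q.2.2.1 && Nat.beq (line (padd q.1 (padd q.2.1 q.2.1))) q.2.2.2) = true := by
  decide +kernel

theorem lines_aux (u1 u3 u4 u5 u9 u10 u11 u12 u13 u14 u15 u16 u17 : ℤ) (n : ℕ) (hn : n ≤ 13)
    (hc : (n : ℤ) = (1 - u1 ^ 2) + (1 - u3 ^ 2) + (1 - u4 ^ 2) + (1 - u5 ^ 2) + (1 - u9 ^ 2) + (1 - u10 ^ 2) + (1 - u11 ^ 2) + (1 - u12 ^ 2) + (1 - u13 ^ 2) + (1 - u14 ^ 2) + (1 - u15 ^ 2) + (1 - u16 ^ 2) + (1 - u17 ^ 2))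
    (hl : -13 ≤ u1 + u3 + u4 + u5 + u9 + u10 + u11 + u12 + u13 + u14 + u15 + u16 + u17) (hu : u1 + u3 + u4 + u5 + u9 + u10 + u11 + u12 + u13 + u14 + u15 + u16 + u17 ≤ 13)
    (a0 : (u1 + u3 + u4 + u5) ^ 2 = u1 + u3 + u4 + u5 + 2)
    (a1 : (u1 + u9 + u10 + u11) ^ 2 = u1 + u9 + u10 + u11 + 2)
    (a2 : (u1 + u12 + u13 + u14) ^ 2 = u1 + u12 + u13 + u14 + 2)
    (a3 : (u1 + u15 + u16 + u17) ^ 2 = u1 + u15 + u16 + u17 + 2)
    (a4 : (u3 + u9 + u12 + u15) ^ 2 = u3 + u9 + u12 + u15 + 2)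
    (a5 : (u3 + u10 + u13 + u16) ^ 2 = u3 + u10 + u13 + u16 + 2)
    (a6 : (u3 + u11 + u14 + u17) ^ 2 = u3 + u11 + u14 + u17 + 2)
    (a7 : (u4 + u9 + u13 + u17) ^ 2 = u4 + u9 + u13 + u17 + 2)
    (a8 : (u4 + u10 + u14 + u15) ^ 2 = u4 + u10 + u14 + u15 + 2)
    (a9 : (u4 + u11 + u12 + u16) ^ 2 = u4 + u11 + u12 + u16 + 2)
    (a10 : (u5 + u9 + u14 + u16) ^ 2 = u5 + u9 + u14 + u16 + 2)
    (a11 : (u5 + u10 + u12 + u17) ^ 2 = u5 + u10 + u12 + u17 + 2)
    (a12 : (u5 + u11 + u13 + u15) ^ 2 = u5 + u11 + u13 + u15 + 2) :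
    n = 3 ∨ n = 6 := by
  have key : 3 * (13 - (n : ℤ)) + (u1 + u3 + u4 + u5 + u9 + u10 + u11 + u12 + u13 + u14 + u15 + u16 + u17) ^ 2 = 4 * (u1 + u3 + u4 + u5 + u9 + u10 + u11 + u12 + u13 + u14 + u15 + u16 + u17) + 26 := by
    linear_combination -3 * hc + a0 + a1 + a2 + a3 + a4 + a5 + a6 + a7 + a8 + a9 + a10 + a11 + a12
  generalize u1 + u3 + u4 + u5 + u9 + u10 + u11 + u12 + u13 + u14 + u15 + u16 + u17 = D at *
  interval_cases D <;> omega

/-- On the thirteen lines of the space with the conditions on the planes three or six values vanish. -/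
theorem zero_lines (f : ℕ → ℤ) (hf : ∀ p ∈ order, -1 ≤ f p ∧ f p ≤ 1)
    (hp : ∀ q ∈ planes, f q.1 + f q.2.1 + f q.2.2.1 + f q.2.2.2 = -1 ∨
      f q.1 + f q.2.1 + f q.2.2.1 + f q.2.2.2 = 2) :
    order.countP (fun p => decide (f p = 0)) = 3 ∨ order.countP (fun p => decide (f p = 0)) = 6 := by
  have hc : ∀ L : List ℕ, (∀ p ∈ L, -1 ≤ f p ∧ f p ≤ 1) →
      ((L.countP fun p => decide (f p = 0) : ℕ) : ℤ) = (L.map fun p => 1 - f p ^ 2).sum := by
    intro L
    induction L with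
    | nil => intro _; rfl
    | cons a L ih =>
      intro h
      have ha := h a (List.mem_cons_self ..)
      have h' := ih fun p hp => h p (List.mem_cons_of_mem _ hp)
      rcases (show f a = -1 ∨ f a = 0 ∨ f a = 1 by omega) with e | e | e <;>
        simp [e, h'] <;> omega
  have hsq : ∀ q ∈ planes, (f q.1 + f q.2.1 + f q.2.2.1 + f q.2.2.2) ^ 2 =
      f q.1 + f q.2.1 + f q.2.2.1 + f q.2.2.2 + 2 := fun q hq => by
    rcases hp q hq with e | e <;> rw [e] <;> norm_num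
  have hcount : ((order.countP fun p => decide (f p = 0) : ℕ) : ℤ) = (1 - f 1 ^ 2) + (1 - f 3 ^ 2) + (1 - f 4 ^ 2) + (1 - f 5 ^ 2) + (1 - f 9 ^ 2) + (1 - f 10 ^ 2) + (1 - f 11 ^ 2) + (1 - f 12 ^ 2) + (1 - f 13 ^ 2) + (1 - f 14 ^ 2) + (1 - f 15 ^ 2) + (1 - f 16 ^ 2) + (1 - f 17 ^ 2) :=
    (hc order hf).trans (by simp [order]; ring)
  have hb : ∀ p ∈ order, -1 ≤ f p ∧ f p ≤ 1 := hf
  have hlen : order.countP (fun p => decide (f p = 0)) ≤ 13 := List.countP_le_length
  refine lines_aux (f 1) (f 3) (f 4) (f 5) (f 9) (f 10) (f 11) (f 12) (f 13) (f 14) (f 15) (f 16) (f 17) _ hlen hcount ?_ ?_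
    (hsq (1, 3, 4, 5) (by decide))
    (hsq (1, 9, 10, 11) (by decide))
    (hsq (1, 12, 13, 14) (by decide))
    (hsq (1, 15, 16, 17) (by decide))
    (hsq (3, 9, 12, 15) (by decide))
    (hsq (3, 10, 13, 16) (by decide))
    (hsq (3, 11, 14, 17) (by decide))
    (hsq (4, 9, 13, 17) (by decide))
    (hsq (4, 10, 14, 15) (by decide))
    (hsq (4, 11, 12, 16) (by decide))
    (hsq (5, 9, 14, 16) (by decide))
    (hsq (5, 10, 12, 17) (by decide))
    (hsq (5, 11, 13, 15) (by decide))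
  all_goals
    have := hb 1 (by decide)
    have := hb 3 (by decide)
    have := hb 4 (by decide)
    have := hb 5 (by decide)
    have := hb 9 (by decide)
    have := hb 10 (by decide)
    have := hb 11 (by decide)
    have := hb 12 (by decide)
    have := hb 13 (by decide)
    have := hb 14 (by decide)
    have := hb 15 (by decide)
    have := hb 16 (by decide)
    have := hb 17 (by decide)
    omega

/-- each line gives two points -/
theorem countP_line (g : ℕ → Bool) :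
    ((List.range 27).filter fun p => !Nat.beq p 0 && g (line p)).length = 2 * order.countP g := by
  have hperm : (((List.range 27).filter fun p => !Nat.beq p 0).map line).Perm (order ++ order) := by
    decide +kernel
  have := hperm.countP_eq g
  rw [List.countP_map, List.countP_filter, List.countP_append, ← List.countP_eq_length_filter] at *
  rw [two_mul, ← this]
  exact List.countP_congr fun p _ => by simp [and_comm]

variable {G : Type u} [Group G] [Finite G] (W : Weight G)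

theorem plane_sum {x y : G} (hx : orderOf x = 3) (hy : orderOf y = 3) (hc : Commute x y)
    (hn : y ∉ zpowers x) :
    W.u x + W.u y + W.u (x * y) + W.u (x * y ^ 2) = -1 ∨ W.u x + W.u y + W.u (x * y) + W.u (x * y ^ 2) = 2 := by
  obtain ⟨h5, h6⟩ := orderOf_plane hx hy hc hn
  obtain ⟨m0, m1, e0, -⟩ := W.plane x y hx hy hc hn
  have r1 := W.range x hx
  have r2 := W.range y hy
  have r3 := W.range _ h5
  have r4 := W.range _ h6
  omega

theorem zero_count_abelian (hN : Nat.card G = 6048) (h : Sparse G) (T : Sylow 3 G)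
    (hab : ∀ a ∈ (T : Subgroup G), ∀ b ∈ (T : Subgroup G), a * b = b * a) :
    {g : G | g ∈ (T : Subgroup G) ∧ g ≠ 1 ∧ W.u g = 0}.ncard = 6 ∨
      {g : G | g ∈ (T : Subgroup G) ∧ g ≠ 1 ∧ W.u g = 0}.ncard = 12 := by
  classical
  have hT := card_sylow_three hN T
  have hne : (T : Subgroup G) ≠ ⊥ := fun e => by rw [e, Subgroup.card_bot] at hT; norm_num at hT
  obtain ⟨x, hxT, hx1⟩ := (Subgroup.bot_or_exists_ne_one _).resolve_left hne
  have hxo := h.orderOf_sylow_three T hxT hx1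
  obtain ⟨y, hyT, hyn⟩ : ∃ y ∈ (T : Subgroup G), y ∉ zpowers x := by
    by_contra hcon
    push Not at hcon
    have := Subgroup.card_le_of_le (show (T : Subgroup G) ≤ zpowers x from hcon)
    rw [hT, Nat.card_zpowers, hxo] at this
    omega
  have hyo := h.orderOf_sylow_three T hyT fun e => hyn (e ▸ one_mem _)
  have hxy : x * y = y * x := hab x hxT y hyT
  let A : Subgroup G := zpowers x ⊔ zpowers y
  have hA : Nat.card A ∣ 9 := by
    have hcm : ∀ (a : zpowers x) (b : zpowers y), Commute ((zpowers x).subtype a) ((zpowers y).subtype b) := by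
      rintro ⟨a, ha⟩ ⟨b, hb⟩
      obtain ⟨i, rfl⟩ := mem_zpowers_iff.1 ha
      obtain ⟨j, rfl⟩ := mem_zpowers_iff.1 hb
      exact (show Commute x y from hxy).zpow_zpow i j
    have e : A = (MonoidHom.noncommCoprod _ _ hcm).range := by
      rw [MonoidHom.noncommCoprod_range, Subgroup.range_subtype, Subgroup.range_subtype]
    rw [e]
    refine (Subgroup.card_range_dvd _).trans ?_
    rw [Nat.card_prod, Nat.card_zpowers, Nat.card_zpowers, hxo, hyo]
  obtain ⟨z, hzT, hzn⟩ : ∃ z ∈ (T : Subgroup G), z ∉ A := by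
    by_contra hcon
    push Not at hcon
    have h1 := Subgroup.card_le_of_le (show (T : Subgroup G) ≤ A from hcon)
    have h2 := Nat.le_of_dvd (by norm_num) hA
    omega
  have hzo := h.orderOf_sylow_three T hzT fun e => hzn (e ▸ one_mem _)
  have hxA : x ∈ A := le_sup_left (a := zpowers x) (mem_zpowers x)
  have hyA : y ∈ A := le_sup_right (a := zpowers x) (mem_zpowers y)
  have hx3 : x ^ 3 = 1 := orderOf_dvd_iff_pow_eq_one.1 (dvd_of_eq hxo)
  have hy3 : y ^ 3 = 1 := orderOf_dvd_iff_pow_eq_one.1 (dvd_of_eq hyo)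
  have hz3 : z ^ 3 = 1 := orderOf_dvd_iff_pow_eq_one.1 (dvd_of_eq hzo)
  let φ : ℕ → G := fun p => x ^ (dig p).1 * y ^ (dig p).2.1 * z ^ (dig p).2.2
  have hcomm : ∀ {a b : G}, a ∈ (T : Subgroup G) → b ∈ (T : Subgroup G) → Commute a b := fun ha hb => hab _ ha _ hb
  have hφT : ∀ p, φ p ∈ (T : Subgroup G) := fun p => mul_mem (mul_mem (pow_mem hxT _) (pow_mem hyT _)) (pow_mem hzT _)
  have hmul : ∀ p q, φ (padd p q) = φ p * φ q := by
    intro p q
    have hd : dig (padd p q) = (((dig p).1 + (dig q).1) % 3, ((dig p).2.1 + (dig q).2.1) % 3,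
        ((dig p).2.2 + (dig q).2.2) % 3) := by
      simp only [padd, dig, Prod.mk.injEq]
      omega
    simp only [φ, hd, ← pow_eq_pow_mod _ hx3, ← pow_eq_pow_mod _ hy3, ← pow_eq_pow_mod _ hz3, pow_add]
    have hX : ∀ n, x ^ n ∈ (T : Subgroup G) := fun n => pow_mem hxT n
    have hY : ∀ n, y ^ n ∈ (T : Subgroup G) := fun n => pow_mem hyT n
    have hZ : ∀ n, z ^ n ∈ (T : Subgroup G) := fun n => pow_mem hzT n
    calc _ = x ^ (dig p).1 * (x ^ (dig q).1 * y ^ (dig p).2.1) * (y ^ (dig q).2.1 * z ^ (dig p).2.2) * z ^ (dig q).2.2 := by group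
      _ = x ^ (dig p).1 * (y ^ (dig p).2.1 * x ^ (dig q).1) * (z ^ (dig p).2.2 * y ^ (dig q).2.1) * z ^ (dig q).2.2 := by
          rw [(hcomm (hX _) (hY _)).eq, (hcomm (hY _) (hZ _)).eq]
      _ = x ^ (dig p).1 * y ^ (dig p).2.1 * (x ^ (dig q).1 * z ^ (dig p).2.2) * y ^ (dig q).2.1 * z ^ (dig q).2.2 := by group
      _ = _ := by rw [(hcomm (hX _) (hZ _)).eq]; group
  have hker : ∀ a < 3, ∀ b < 3, ∀ c < 3, x ^ a * y ^ b * z ^ c = 1 → a = 0 ∧ b = 0 ∧ c = 0 := by
    intro a ha b hb c hc e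
    have hc0 : c = 0 := by
      by_contra h0
      have hzc : z ^ c ∈ A := by
        rw [show z ^ c = (x ^ a * y ^ b)⁻¹ by rw [eq_inv_iff_mul_eq_one, ← e]; exact (hcomm (pow_mem hzT _) (mul_mem (pow_mem hxT _) (pow_mem hyT _))).eq]
        exact inv_mem (mul_mem (pow_mem hxA _) (pow_mem hyA _))
      apply hzn
      rcases (show c = 1 ∨ c = 2 by omega) with rfl | rfl
      · simpa using hzc
      · have h2 : z = z ^ 2 * z ^ 2 := by rw [← pow_add, show (2 + 2) = 3 + 1 from rfl, pow_succ, hz3, one_mul]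
        rw [h2]; exact mul_mem hzc hzc
    subst hc0
    rw [pow_zero, mul_one] at e
    have hb0 : b = 0 := by
      by_contra h0
      have hyb : y ^ b ∈ zpowers x := by
        rw [show y ^ b = (x ^ a)⁻¹ from eq_inv_of_mul_eq_one_right e]
        exact inv_mem (pow_mem (mem_zpowers x) _)
      apply hyn
      rcases (show b = 1 ∨ b = 2 by omega) with rfl | rfl
      · simpa using hyb
      · have h2 : y = y ^ 2 * y ^ 2 := by rw [← pow_add, show (2 + 2) = 3 + 1 from rfl, pow_succ, hy3, one_mul]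
        rw [h2]; exact mul_mem hyb hyb
    subst hb0
    rw [pow_zero, mul_one] at e
    refine ⟨?_, rfl, rfl⟩
    by_contra h0
    have := orderOf_dvd_of_pow_eq_one e
    rw [hxo] at this
    have := Nat.le_of_dvd (by omega) this
    omega
  have hinj : ∀ p < 27, φ p = 1 → p = 0 := by
    intro p hp e
    obtain ⟨h1, h2, h3⟩ := hker _ (show p / 9 < 3 by omega) _ (show p / 3 % 3 < 3 by omega) _
      (show p % 3 < 3 by omega) e
    omega
  have hneg : ∀ p < 27, padd p (padd p p) = 0 ∧ padd p p < 27 := by decide +kernel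
  have hφ0 : φ 0 = 1 := by simp [φ, dig]
  have hinv : ∀ p < 27, φ (padd p p) = (φ p)⁻¹ := fun p hp =>
    eq_inv_of_mul_eq_one_right (by rw [← hmul, (hneg p hp).1, hφ0])
  have hinj2 : ∀ p < 27, ∀ q < 27, φ p = φ q → p = q := by
    intro p hp q hq e
    have h1 : φ (padd p (padd q q)) = 1 := by rw [hmul, hinv q hq, e, mul_inv_cancel]
    have hlt : ∀ p < 27, ∀ q < 27, padd p (padd q q) < 27 ∧ (padd p (padd q q) = 0 → p = q) := by decide +kernel
    exact (hlt p hp q hq).2 (hinj _ (hlt p hp q hq).1 h1)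
  have hord : ∀ p < 27, p ≠ 0 → orderOf (φ p) = 3 := fun p hp h0 =>
    h.orderOf_sylow_three T (hφT p) fun e => h0 (hinj p hp e)
  let f : ℕ → ℤ := fun p => W.u (φ p)
  have hline : ∀ p < 27, p ≠ 0 → f (line p) = f p := by
    intro p hp h0
    rcases min_choice p (padd p p) with e | e <;> simp only [line, e, f]
    rw [hinv p hp, W.inv_eq _ (hord p hp h0)]
  have horder : ∀ p ∈ order, p < 27 ∧ p ≠ 0 := by decide +kernel
  have hcount := zero_lines f (fun p hp => W.range _ (hord p (horder p hp).1 (horder p hp).2)) ?_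
  · have himg : {g : G | g ∈ (T : Subgroup G) ∧ g ≠ 1 ∧ W.u g = 0} =
        φ '' {p | p < 27 ∧ p ≠ 0 ∧ f (line p) = 0} := by
      have hsurj : φ '' {p | p < 27} = ((T : Subgroup G) : Set G) := by
        refine Set.eq_of_subset_of_ncard_le (fun g ⟨p, _, e⟩ => e ▸ hφT p) ?_ (Set.toFinite _)
        rw [Set.InjOn.ncard_image (f := φ) (s := {p : ℕ | p < 27}) (fun p hp q hq e => hinj2 p hp q hq e)]
        have h27 : ({p : ℕ | p < 27} : Set ℕ).ncard = 27 := by
          rw [show {p : ℕ | p < 27} = ↑(Finset.range 27) by ext; simp, Set.ncard_coe_finset, Finset.card_range]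
        rw [h27, ← hT]
        exact le_of_eq (Nat.card_coe_set_eq _).symm
      ext g
      constructor
      · rintro ⟨hg, hg1, hu⟩
        obtain ⟨p, hp, rfl⟩ : g ∈ φ '' {p | p < 27} := hsurj ▸ hg
        have h0 : p ≠ 0 := fun e => hg1 (by rw [e, hφ0])
        exact ⟨p, ⟨hp, h0, by rw [hline p hp h0]; exact hu⟩, rfl⟩
      · rintro ⟨p, ⟨hp, h0, hu⟩, rfl⟩
        exact ⟨hφT p, fun e => h0 (hinj p hp e), by rw [hline p hp h0] at hu; exact hu⟩
    rw [himg, Set.InjOn.ncard_image (fun p hp q hq e => hinj2 p hp.1 q hq.1 e)]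
    have hset : {p | p < 27 ∧ p ≠ 0 ∧ f (line p) = 0} =
        ↑((List.range 27).filter fun p => !Nat.beq p 0 && decide (f (line p) = 0)).toFinset := by
      ext p
      simp [Bool.eq_false_iff]
    rw [hset, Set.ncard_coe_finset, List.toFinset_card_of_nodup (List.nodup_range.filter _),
      countP_line fun p => decide (f p = 0)]
    omega
  · intro q hq
    have hall := planes_ok
    simp only [List.all_eq_true, Bool.and_eq_true, Nat.beq_eq] at hall
    obtain ⟨ha, hb⟩ := hall q hq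
    have hlt : ∀ q ∈ planes, q.1 < 27 ∧ q.1 ≠ 0 ∧ q.2.1 < 27 ∧ q.2.1 ≠ 0 ∧
        padd q.1 q.2.1 < 27 ∧ padd q.1 q.2.1 ≠ 0 ∧ padd q.1 (padd q.2.1 q.2.1) < 27 ∧
        padd q.1 (padd q.2.1 q.2.1) ≠ 0 ∧ q.2.1 ≠ q.1 ∧ q.2.1 ≠ padd q.1 q.1 := by decide +kernel
    obtain ⟨l1, n1, l2, n2, l3, n3, l4, n4, d1, d2⟩ := hlt q hq
    rw [← ha, ← hb, hline _ l3 n3, hline _ l4 n4]
    show W.u (φ q.1) + W.u (φ q.2.1) + W.u (φ _) + W.u (φ _) = -1 ∨ W.u (φ q.1) + W.u (φ q.2.1) + W.u (φ _) + W.u (φ _) = 2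
    rw [hmul q.1, hmul q.1, hmul q.2.1, ← pow_two]
    refine plane_sum W (hord _ l1 n1) (hord _ l2 n2) (hcomm (hφT _) (hφT _)) fun hm => ?_
    obtain ⟨i, hi⟩ := mem_powers_iff_mem_zpowers.2 hm
    have hi' : φ q.1 ^ (i % 3) = φ q.2.1 :=
      (pow_eq_pow_mod i (orderOf_dvd_iff_pow_eq_one.1 (dvd_of_eq (hord _ l1 n1)))).symm.trans hi
    rcases (show i % 3 = 0 ∨ i % 3 = 1 ∨ i % 3 = 2 by omega) with e | e | e <;> rw [e] at hi'
    · rw [pow_zero] at hi'
      exact n2 (hinj _ l2 hi'.symm)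
    · rw [pow_one] at hi'
      exact d1 (hinj2 _ l2 _ l1 hi'.symm)
    · rw [pow_two, ← hmul] at hi'
      exact d2 (hinj2 _ l2 _ (hneg _ l1).2 hi'.symm)

end CfsgLib.UThreeRecog
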