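import Cfsg.Agent.Lib.UThreeRecog.Structure

/-!
Coordinates: generators of a point stabiliser and an involution swapping two points.
-/

set_option autoImplicit false

namespace CfsgLib.UThreeRecog

open Subgroup CfsgLib.SmallOrder
open scoped Pointwise

universe u

/-- the element with given digits -/
def word {G : Type u} [Group G] (x y : G) (a b c : ℕ) : G := x ^ a * y ^ b * (x * y * x⁻¹ * y⁻¹) ^ c

/-- coordinates in the group -/
structure Frame (G : Type u) [Group G] where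
  /-- the fixed point -/
  T : Sylow 3 G
  /-- the origin -/
  Q : Sylow 3 G
  /-- first generator -/
  x : G
  /-- second generator -/
  y : G
  /-- the generator of the two point stabiliser -/
  h : G
  /-- the swap -/
  t : G
  ne : Q ≠ T
  xT : x ∈ (T : Subgroup G)
  yT : y ∈ (T : Subgroup G)
  hT : h • T = T
  hQ : h • Q = Q
  x3 : x ^ 3 = 1
  y3 : y ^ 3 = 1
  z3 : (x * y * x⁻¹ * y⁻¹) ^ 3 = 1
  xz : Commute x (x * y * x⁻¹ * y⁻¹)
  yz : Commute y (x * y * x⁻¹ * y⁻¹)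
  hx : h * x * h⁻¹ = y
  hy : h * y * h⁻¹ = x * y
  inj : ∀ a < 3, ∀ b < 3, ∀ c < 3, ∀ a' < 3, ∀ b' < 3, ∀ c' < 3,
    word x y a b c • Q = word x y a' b' c' • Q → a = a' ∧ b = b' ∧ c = c'
  surj : ∀ R : Sylow 3 G, R ≠ T → ∃ a < 3, ∃ b < 3, ∃ c < 3, word x y a b c • Q = R
  stab : ∀ g : G, g • T = T → g • Q = Q → g ∈ zpowers h
  order : orderOf h = 8
  swap : t • T = Q
  invol : t * t = 1

theorem mem_of_pow_mem {G : Type u} [Group G] {S : Subgroup G} {x : G} (hx : x ^ 3 = 1) {n : ℕ}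
    (hn : x ^ n ∈ S) (h : n % 3 ≠ 0) : x ∈ S := by
  rw [pow_eq_pow_mod n hx] at hn
  rcases (show n % 3 = 1 ∨ n % 3 = 2 by omega) with e | e <;> rw [e] at hn
  · simpa using hn
  · have : x = x ^ 2 * x ^ 2 := by rw [← pow_add, show 2 + 2 = 3 + 1 from rfl, pow_succ, hx, one_mul]
    rw [this]; exact mul_mem hn hn

theorem word_basis {G : Type u} [Group G] [Finite G] {T Z : Subgroup G} (hT : Nat.card T = 27)
    (hZc : ∀ w ∈ Z, ∀ a ∈ T, Commute a w) {x y : G} (hz : x * y * x⁻¹ * y⁻¹ ∈ Z) (hx : x ∈ T) (hy : y ∈ T)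
    (hexp : ∀ g ∈ T, g ^ 3 = 1) (hc : ¬ Commute x y) :
    (∀ a < 3, ∀ b < 3, ∀ c < 3, ∀ a' < 3, ∀ b' < 3, ∀ c' < 3, word x y a b c = word x y a' b' c' →
        a = a' ∧ b = b' ∧ c = c') ∧
      ∀ g ∈ T, ∃ a < 3, ∃ b < 3, ∃ c < 3, word x y a b c = g := by
  obtain ⟨z, hzdef⟩ : ∃ z, z = x * y * x⁻¹ * y⁻¹ := ⟨_, rfl⟩
  have hzT : z ∈ T := hzdef ▸ mul_mem (mul_mem (mul_mem hx hy) (inv_mem hx)) (inv_mem hy)
  rw [← hzdef] at hz
  have cx : Commute x z := hZc z hz x hx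
  have cy : Commute y z := hZc z hz y hy
  have x3 := hexp x hx
  have y3 := hexp y hy
  have z3 := hexp z hzT
  have hkey : ∀ a b c a' b' c' : ℕ, x ^ a * y ^ b * z ^ c = x ^ a' * y ^ b' * z ^ c' →
      y ^ (b + 2 * b') = x ^ (2 * a + a') * z ^ (c' + 2 * c) := by
    intro a b c a' b' c' e
    calc y ^ (b + 2 * b') = (x ^ (3 * a)) * y ^ b * (y ^ (2 * b') * z ^ (3 * c)) := by
          rw [pow_mul x, pow_mul z, x3, z3, one_pow, one_pow, one_mul, mul_one, pow_add]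
      _ = x ^ (2 * a) * (x ^ a * y ^ b * z ^ c) * (y ^ (2 * b') * z ^ (2 * c)) := by
          rw [show 3 * a = 2 * a + a by ring, show 3 * c = c + 2 * c by ring, pow_add x, pow_add z,
            ← mul_assoc (y ^ (2 * b')), (cy.pow_pow (2 * b') c).eq]
          group
      _ = x ^ (2 * a) * (x ^ a' * y ^ b' * z ^ c') * (y ^ (2 * b') * z ^ (2 * c)) := by rw [e]
      _ = x ^ (2 * a + a') * (y ^ b' * y ^ (2 * b')) * (z ^ c' * z ^ (2 * c)) := by
          rw [pow_add x]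
          calc x ^ (2 * a) * (x ^ a' * y ^ b' * z ^ c') * (y ^ (2 * b') * z ^ (2 * c)) =
                x ^ (2 * a) * x ^ a' * y ^ b' * (z ^ c' * y ^ (2 * b')) * z ^ (2 * c) := by group
            _ = _ := by rw [← (cy.pow_pow (2 * b') c').eq]; group
      _ = _ := by rw [← pow_add y, ← pow_add z, show b' + 2 * b' = 3 * b' by ring, pow_mul y, y3, one_pow, mul_one]
  have hinj : ∀ a < 3, ∀ b < 3, ∀ c < 3, ∀ a' < 3, ∀ b' < 3, ∀ c' < 3, word x y a b c = word x y a' b' c' →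
      a = a' ∧ b = b' ∧ c = c' := by
    intro a ha b hb c hc' a' ha' b' hb' c' hc'' e
    rw [word, word, ← hzdef] at e
    have e1 := hkey a b c a' b' c' e
    have hbb : b = b' := by
      by_contra hne
      refine hc (mem_centralizer_singleton_iff.1 (mem_of_pow_mem (S := centralizer {x}) y3 (n := b + 2 * b') ?_
        (by omega))).symm
      rw [e1]
      exact mem_centralizer_singleton_iff.2 (((Commute.self_pow x _).mul_right (cx.pow_right _)).eq.symm)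
    subst hbb
    rw [show b + 2 * b = 3 * b by ring, pow_mul, y3, one_pow] at e1
    have hxa : x ^ (2 * a + a') = (z ^ (c' + 2 * c))⁻¹ := eq_inv_of_mul_eq_one_left e1.symm
    have haa : a = a' := by
      by_contra hne
      refine hc (mem_centralizer_singleton_iff.1 (mem_of_pow_mem (S := centralizer {y}) x3 (n := 2 * a + a') ?_
        (by omega)))
      rw [hxa]
      exact mem_centralizer_singleton_iff.2 ((cy.pow_right _).inv_right.eq.symm)
    subst haa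
    have e2 := mul_left_cancel e
    have hz1 : z ≠ 1 := fun h1 => hc (mul_inv_eq_iff_eq_mul.1 (mul_inv_eq_one.1 (hzdef ▸ h1)))
    rw [pow_inj_mod, orderOf_eq_prime z3 hz1] at e2
    exact ⟨rfl, rfl, by omega⟩
  refine ⟨hinj, fun g hg => ?_⟩
  let F : Fin 3 × Fin 3 × Fin 3 → T := fun p => ⟨word x y p.1 p.2.1 p.2.2,
    mul_mem (mul_mem (pow_mem hx _) (pow_mem hy _)) (pow_mem (hzdef ▸ hzT) _)⟩
  have hF : Function.Bijective F := (Nat.bijective_iff_injective_and_card F).2 ⟨fun p q e => by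
    obtain ⟨h1, h2, h3⟩ := hinj _ p.1.isLt _ p.2.1.isLt _ p.2.2.isLt _ q.1.isLt _ q.2.1.isLt _ q.2.2.isLt
      (congrArg Subtype.val e)
    exact Prod.ext (Fin.ext h1) (Prod.ext (Fin.ext h2) (Fin.ext h3)), by rw [hT]; simp⟩
  obtain ⟨p, hp⟩ := hF.2 ⟨g, hg⟩
  exact ⟨_, p.1.isLt, _, p.2.1.isLt, _, p.2.2.isLt, congrArg Subtype.val hp⟩

variable {G : Type u} [Group G] [Finite G] [IsSimpleGroup G]

theorem smul_fix_iff {T : Sylow 3 G} {g : G} : g • T = T ↔ g ∈ normalizer ((T : Subgroup G) : Set G) :=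
  Sylow.smul_eq_iff_mem_normalizer

theorem exists_frame (hN : Nat.card G = 6048) (h : Sparse G) : Nonempty (Frame G) := by
  classical
  obtain ⟨W⟩ := exists_weight hN h
  obtain ⟨hn, hNc⟩ := sylow_three_count W hN h
  obtain ⟨T⟩ := (inferInstance : Nonempty (Sylow 3 G))
  obtain ⟨Q, hne⟩ : ∃ Q : Sylow 3 G, Q ≠ T := by
    by_contra hcon
    push Not at hcon
    have : Subsingleton (Sylow 3 G) := ⟨fun a b => (hcon a).trans (hcon b).symm⟩
    rw [Nat.card_of_subsingleton T] at hn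
    norm_num at hn
  have hT := card_sylow_three hN T
  obtain ⟨z0, hz⟩ := exists_centre W hN h T
  have hfix : ∀ g ∈ (T : Subgroup G), g • T = T := fun g hg => smul_fix_iff.2 (le_normalizer hg)
  have hfree : ∀ g ∈ (T : Subgroup G), g • Q = Q → g = 1 := fun g hg he => by
    have hgQ := mem_of_normalizes Q hg (smul_fix_iff.1 he)
    exact Subgroup.mem_bot.1 (inter_eq_bot W hN h hne ▸ ⟨hg, hgQ⟩)
  -- regular on the rest
  have hreg : ∀ R : Sylow 3 G, R ≠ T → ∃ g : ↥(T : Subgroup G), (g : G) • Q = R := by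
    let F : ↥(T : Subgroup G) → {R : Sylow 3 G // R ≠ T} := fun g => ⟨(g : G) • Q, fun e => hne (by
      have := congrArg ((g : G)⁻¹ • ·) e
      simp only [inv_smul_smul] at this
      rw [this, hfix _ (inv_mem g.2)])⟩
    have hFi : Function.Injective F := fun a b e => by
      have e' : (a : G) • Q = (b : G) • Q := congrArg Subtype.val e
      have := hfree _ (mul_mem (inv_mem b.2) a.2) (by rw [mul_smul, e', inv_smul_smul])
      exact Subtype.ext (inv_mul_eq_one.1 this).symm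
    have hF : Function.Bijective F := (Nat.bijective_iff_injective_and_card F).2 ⟨hFi, by
      have := Fintype.ofFinite (Sylow 3 G)
      rw [hT, Nat.card_eq_fintype_card, Fintype.card_subtype_compl, Fintype.card_subtype_eq,
        ← Nat.card_eq_fintype_card, hn]⟩
    exact fun R hR => ⟨(hF.2 ⟨R, hR⟩).choose, congrArg Subtype.val (hF.2 ⟨R, hR⟩).choose_spec⟩
  -- the stabiliser of two points
  let N := normalizer ((T : Subgroup G) : Set G)
  let H : Subgroup G := MulAction.stabilizer G T ⊓ MulAction.stabilizer G Q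
  have hHmem : ∀ g, g ∈ H ↔ g • T = T ∧ g • Q = Q := fun g => Iff.rfl
  have hH : Nat.card H = 8 := by
    let F : ↥(T : Subgroup G) × ↥H → ↥N := fun p => ⟨(p.1 : G) * p.2,
      mul_mem (le_normalizer p.1.2) (smul_fix_iff.1 ((hHmem _).1 p.2.2).1)⟩
    have hF : Function.Bijective F := by
      refine ⟨fun ⟨a, b⟩ ⟨c, d⟩ e => ?_, fun n => ?_⟩
      · have e' : (a : G) * b = c * d := congrArg Subtype.val e
        have hac : (c : G)⁻¹ * a = d * (b : G)⁻¹ := by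
          rw [eq_mul_inv_iff_mul_eq, mul_assoc, e', inv_mul_cancel_left]
        have h1 := hfree _ (mul_mem (inv_mem c.2) a.2) (by
          rw [hac, mul_smul, ((hHmem _).1 (inv_mem b.2)).2, ((hHmem _).1 d.2).2])
        have hca : (c : G) = a := inv_mul_eq_one.1 h1
        refine Prod.ext (Subtype.ext hca.symm) (Subtype.ext ?_)
        rw [hca] at e'
        exact mul_left_cancel e'
      · have hnT : (n : G) • T = T := smul_fix_iff.2 n.2
        obtain ⟨g, hg⟩ := hreg ((n : G) • Q) fun e => hne (by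
          have := congrArg ((n : G)⁻¹ • ·) e
          simp only [inv_smul_smul] at this
          rw [this, inv_smul_eq_iff, hnT])
        refine ⟨⟨g, ⟨(g : G)⁻¹ * n, ?_⟩⟩, Subtype.ext (mul_inv_cancel_left _ _)⟩
        exact (hHmem _).2 ⟨by rw [mul_smul, hnT, hfix _ (inv_mem g.2)], by rw [mul_smul, ← hg, inv_smul_smul]⟩
    have := Nat.card_eq_of_bijective F hF
    rw [Nat.card_prod, hT, hNc T] at this
    omega
  -- its action on the Sylow subgroup
  have hconjT : ∀ g ∈ H, ∀ a, a ∈ (T : Subgroup G) → g * a * g⁻¹ ∈ (T : Subgroup G) := fun g hg a ha =>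
    (Subgroup.mem_normalizer_iff.1 (smul_fix_iff.1 ((hHmem g).1 hg).1) a).1 ha
  let Z := zpowers z0
  have hz3 : ∀ w ∈ Z, w ^ 3 = 1 := fun w hw => by
    obtain ⟨i, rfl⟩ := mem_zpowers_iff.1 hw
    have h3 : z0 ^ 3 = 1 := orderOf_dvd_iff_pow_eq_one.1 (dvd_of_eq hz.order)
    rw [← zpow_natCast, ← zpow_mul, mul_comm, zpow_mul, zpow_natCast, h3, one_zpow]
  have hZT : ∀ w ∈ Z, w ∈ (T : Subgroup G) := fun w hw => zpowers_le.2 hz.mem hw
  have hZc : ∀ w ∈ Z, ∀ a ∈ (T : Subgroup G), Commute a w := fun w hw a ha => by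
    obtain ⟨i, rfl⟩ := mem_zpowers_iff.1 hw
    exact (show Commute a z0 from hz.comm a ha).zpow_right i
  have hconjZ : ∀ g ∈ H, ∀ w ∈ Z, g * w * g⁻¹ ∈ Z := fun g hg w hw => by
    refine hz.le_of_central (hconjT g hg w (hZT w hw)) fun a ha => ?_
    have hc : Commute (g⁻¹ * a * g) w := hZc w hw _ (by simpa using hconjT g⁻¹ (inv_mem hg) a ha)
    calc a * (g * w * g⁻¹) = g * ((g⁻¹ * a * g) * w) * g⁻¹ := by group
      _ = g * (w * (g⁻¹ * a * g)) * g⁻¹ := by rw [hc.eq]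
      _ = g * w * g⁻¹ * a := by group
  -- no element fixes a coset of the centre
  have hcoset : ∀ g ∈ H, g ≠ 1 → ∀ a ∈ (T : Subgroup G), a ∉ Z → g * a * g⁻¹ * a⁻¹ ∉ Z := by
    intro g hg hg1 a ha hna hfixed
    let K : Subgroup G :=
      { carrier := {k | k ∈ H ∧ k * a * k⁻¹ * a⁻¹ ∈ Z}
        one_mem' := ⟨one_mem _, by simp [Z]⟩
        mul_mem' := fun {k l} hk hl => ⟨mul_mem hk.1 hl.1, by
          have : k * l * a * (k * l)⁻¹ * a⁻¹ = (k * (l * a * l⁻¹ * a⁻¹) * k⁻¹) * (k * a * k⁻¹ * a⁻¹) := by group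
          rw [this]; exact mul_mem (hconjZ k hk.1 _ hl.2) hk.2⟩
        inv_mem' := fun {k} hk => ⟨inv_mem hk.1, by
          have : k⁻¹ * a * k⁻¹⁻¹ * a⁻¹ = (k⁻¹ * (k * a * k⁻¹ * a⁻¹) * k⁻¹⁻¹)⁻¹ := by group
          rw [this]; exact inv_mem (hconjZ k⁻¹ (inv_mem hk.1) _ hk.2)⟩ }
    have hK1 : Nat.card K ≠ 1 := fun e => hg1 (Subgroup.mem_bot.1
      (Subgroup.card_eq_one.1 e ▸ (show g ∈ K from ⟨hg, hfixed⟩)))
    have hKd : Nat.card K ∣ 8 := hH ▸ Subgroup.card_dvd_of_le fun k hk => hk.1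
    have h2K : 2 ∣ Nat.card K := by
      obtain ⟨i, -, hi⟩ := (Nat.dvd_prime_pow Nat.prime_two (m := 3)).1 hKd
      rw [hi] at hK1 ⊢
      exact dvd_pow_self 2 fun e => hK1 (by rw [e, pow_zero])
    have : Fact (Nat.Prime 2) := ⟨Nat.prime_two⟩
    obtain ⟨ks, hso⟩ := exists_prime_orderOf_dvd_card' 2 h2K
    obtain ⟨s, hs, hsa⟩ := ks
    replace hso : orderOf s = 2 := (Subgroup.orderOf_coe _).trans hso
    have hs2 : s * s = 1 := by rw [← pow_two]; exact orderOf_dvd_iff_pow_eq_one.1 (dvd_of_eq hso)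
    obtain ⟨v, hv, hva⟩ : ∃ v ∈ Z, s * (a * v) * s⁻¹ = a * v := by
      obtain ⟨w, hwdef⟩ : ∃ w, w = s * a * s⁻¹ * a⁻¹ := ⟨_, rfl⟩
      have hw : w ∈ Z := hwdef ▸ hsa
      have hw' : s * a * s⁻¹ = w * a := by rw [hwdef, inv_mul_cancel_right]
      have hsw : s * w * s⁻¹ = w⁻¹ := by
        have e : a = s * (w * a) * s⁻¹ := by
          rw [← hw']
          calc a = (s * s) * a * (s * s)⁻¹ := by rw [hs2]; group
            _ = _ := by group
        have e' : a = s * w * s⁻¹ * (w * a) := by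
          rw [← hw']; calc a = s * (w * a) * s⁻¹ := e
            _ = _ := by group
        exact eq_inv_of_mul_eq_one_left (mul_right_cancel (b := a) (by rw [one_mul, mul_assoc, ← e']))
      refine ⟨w ^ 2, pow_mem hw 2, ?_⟩
      have hca : Commute a w := hZc w hw a ha
      calc s * (a * w ^ 2) * s⁻¹ = (s * a * s⁻¹) * (s * w * s⁻¹) ^ 2 := by rw [conj_pow]; group
        _ = a * (w * w⁻¹ ^ 2) := by rw [hw', hsw, ← hca.eq, mul_assoc]
        _ = a * w ^ 2 := by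
          rw [show w ^ 2 = w⁻¹ from eq_inv_of_mul_eq_one_left (by rw [← pow_succ]; exact hz3 w hw), pow_two,
            mul_inv_cancel_left]
    have hb : a * v ∉ Z := fun hm => hna (by simpa using mul_mem hm (inv_mem hv))
    have hbT : a * v ∈ (T : Subgroup G) := mul_mem ha (hZT v hv)
    have hbo := h.orderOf_sylow_three T hbT fun e => hb (e ▸ one_mem _)
    refine W.zero _ hbo (hz.zero _ hbT hb) ?_
    rw [← hso, ← Subgroup.orderOf_mk s (mem_centralizer_singleton_iff.2 (mul_inv_eq_iff_eq_mul.1 hva))]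
    exact orderOf_dvd_natCard _
  -- an element inverting the centre
  have hz0T := hz.mem
  obtain ⟨h0, hh0, hinv⟩ : ∃ g ∈ H, g * z0 * g⁻¹ = z0⁻¹ := by
    by_contra hcon
    push Not at hcon
    refine W.neg z0 hz.order hz.neg ?_
    rw [← hH]
    refine Subgroup.card_dvd_of_le fun g hg => mem_centralizer_singleton_iff.2 ?_
    obtain ⟨i, hi⟩ := mem_powers_iff_mem_zpowers.2 (hconjZ g hg z0 (mem_zpowers z0))
    have h3 := hz3 z0 (mem_zpowers z0)
    replace hi : z0 ^ (i % 3) = g * z0 * g⁻¹ := (pow_eq_pow_mod i h3).symm.trans hi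
    rcases (show i % 3 = 0 ∨ i % 3 = 1 ∨ i % 3 = 2 by omega) with e | e | e <;> rw [e] at hi
    · exfalso
      have := hz.order
      rw [conj_eq_one_iff.1 (hi.symm.trans (pow_zero z0)), orderOf_one] at this
      norm_num at this
    · exact mul_inv_eq_iff_eq_mul.1 (hi.symm.trans (pow_one z0))
    · exact absurd (hi.symm.trans (eq_inv_of_mul_eq_one_left (by rw [← pow_succ]; exact h3))) (hcon g hg)
  have hinvZ : ∀ w ∈ Z, h0 * w * h0⁻¹ = w⁻¹ := fun w hw => by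
    obtain ⟨i, rfl⟩ := mem_zpowers_iff.1 hw
    rw [← conj_zpow, hinv, inv_zpow]
  have hsq : ∀ w ∈ Z, w = w⁻¹ → w = 1 := fun w hw e => by
    have h3 := hz3 w hw
    have h2 : w ^ 2 = 1 := by rw [pow_two]; nth_rewrite 2 [e]; exact mul_inv_cancel w
    rwa [pow_succ, h2, one_mul] at h3
  have hne1 : h0 ≠ 1 := fun e => by
    have := hsq z0 (mem_zpowers z0) (by simpa [e] using hinv)
    have ho := hz.order
    rw [this, orderOf_one] at ho
    norm_num at ho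
  have hcommT : ∀ a ∈ (T : Subgroup G), ∀ b ∈ (T : Subgroup G), a * b * a⁻¹ * b⁻¹ ∈ Z := hz.commutator
  obtain ⟨a0, ha0, b0, hb0, hab0⟩ := not_abelian W hN h T
  have hne2 : h0 * h0 ≠ 1 := by
    intro e
    have hall : ∀ a ∈ (T : Subgroup G), a * (h0 * a * h0⁻¹) ∈ Z := by
      intro a ha
      by_contra hn'
      have ha' := hconjT h0 hh0 a ha
      refine hcoset h0 hh0 hne1 _ (mul_mem ha ha') hn' ?_
      have e1 : h0 * (a * (h0 * a * h0⁻¹)) * h0⁻¹ = h0 * a * h0⁻¹ * a := by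
        calc h0 * (a * (h0 * a * h0⁻¹)) * h0⁻¹ = h0 * a * h0⁻¹ * ((h0 * h0) * a * (h0 * h0)⁻¹) := by group
          _ = _ := by rw [e]; group
      rw [e1]
      have := hcommT _ ha' a ha
      simpa [mul_assoc] using this
    have hform : ∀ a ∈ (T : Subgroup G), ∃ w ∈ Z, h0 * a * h0⁻¹ = a⁻¹ * w := fun a ha =>
      ⟨_, hall a ha, (inv_mul_cancel_left _ _).symm⟩
    let c := a0 * b0 * a0⁻¹ * b0⁻¹
    have hc : c ∈ Z := hcommT a0 ha0 b0 hb0
    obtain ⟨w, hw, ew⟩ := hform a0 ha0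
    obtain ⟨w', hw', ew'⟩ := hform b0 hb0
    have hcc : h0 * c * h0⁻¹ = c := by
      have c1 : Commute (a0⁻¹) w := (hZc w hw a0 ha0).inv_left
      have c2 : Commute (b0⁻¹) w' := (hZc w' hw' b0 hb0).inv_left
      have c3 : Commute (b0⁻¹) w := (hZc w hw b0 hb0).inv_left
      have c4 : Commute a0 w' := hZc w' hw' a0 ha0
      have c5 : Commute w w' := hZc w' hw' w (hZT w hw)
      calc h0 * c * h0⁻¹ = (h0 * a0 * h0⁻¹) * (h0 * b0 * h0⁻¹) * (h0 * a0 * h0⁻¹)⁻¹ * (h0 * b0 * h0⁻¹)⁻¹ := by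
            simp only [c]; group
        _ = a0⁻¹ * (w * b0⁻¹) * w' * w⁻¹ * a0 * w'⁻¹ * b0 := by rw [ew, ew']; group
        _ = a0⁻¹ * b0⁻¹ * (w * w') * w⁻¹ * a0 * w'⁻¹ * b0 := by rw [← c3.eq]; group
        _ = a0⁻¹ * b0⁻¹ * (w' * a0) * w'⁻¹ * b0 := by rw [c5.eq]; group
        _ = a0⁻¹ * b0⁻¹ * a0 * b0 := by rw [← c4.eq]; group
        _ = c := by
          calc a0⁻¹ * b0⁻¹ * a0 * b0 = (b0 * a0)⁻¹ * c * (b0 * a0) := by simp only [c]; group
            _ = c := by rw [mul_assoc, ← (hZc c hc _ (mul_mem hb0 ha0)).eq, inv_mul_cancel_left]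
    refine hab0 (mul_inv_eq_iff_eq_mul.1 (mul_inv_eq_one.1 (hsq c hc ?_)))
    rw [← hinvZ c hc, hcc]
  -- two generators
  have hnc : ∀ x ∈ (T : Subgroup G), x ∉ Z → ¬ Commute x (h0 * x * h0⁻¹) := by
    intro x hx hxn hc
    have hxo := h.orderOf_sylow_three T hx fun e => hxn (e ▸ one_mem _)
    have hx3 : x ^ 3 = 1 := orderOf_dvd_iff_pow_eq_one.1 (dvd_of_eq hxo)
    let C := centralizer ({x} : Set G)
    have hCT : C ≤ (T : Subgroup G) := hz.centralizer_le hN h hx hxn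
    have hCd : Nat.card C ≤ 9 := by
      have hd : Nat.card C ∣ 27 := hT ▸ Subgroup.card_dvd_of_le hCT
      obtain ⟨i, hi, hi'⟩ := (Nat.dvd_prime_pow Nat.prime_three (m := 3)).1 hd
      rw [hi']
      interval_cases i <;> try norm_num
      exfalso
      refine hxn (hz.le_of_central hx fun g hg => mem_centralizer_singleton_iff.1 ?_)
      exact (Subgroup.eq_of_le_of_card_ge hCT (by rw [hi', hT]; norm_num)).ge hg
    let F : Fin 3 × Fin 3 → C := fun p => ⟨x ^ (p.1 : ℕ) * z0 ^ (p.2 : ℕ), mem_centralizer_singleton_iff.2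
      ((Commute.self_pow x _).mul_right ((show Commute x z0 from hz.comm x hx).pow_right _)).eq.symm⟩
    have hFi : Function.Injective F := by
      rintro ⟨i, j⟩ ⟨i', j'⟩ e
      have e' : x ^ (i : ℕ) * z0 ^ (j : ℕ) = x ^ (i' : ℕ) * z0 ^ (j' : ℕ) := congrArg Subtype.val e
      have hi : i = i' := by
        by_contra hne'
        apply hxn
        have hz03 : z0 ^ 3 = 1 := hz3 z0 (mem_zpowers z0)
        have hcm : ∀ n m : ℕ, x ^ n * z0 ^ m = z0 ^ m * x ^ n := fun n m =>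
          ((show Commute x z0 from hz.comm x hx).pow_pow n m).eq
        have hm : x ^ ((i : ℕ) + 2 * i') ∈ Z := by
          have e2 := congrArg (fun v => x ^ (2 * (i' : ℕ)) * v * z0 ^ (2 * (j : ℕ))) e'
          simp only [← mul_assoc, ← pow_add] at e2
          rw [mul_assoc, ← pow_add, show (j : ℕ) + 2 * j = 3 * j by ring, pow_mul z0, hz03, one_pow, mul_one,
            show 2 * (i' : ℕ) + i' = 3 * i' by ring, pow_mul x, hx3, one_pow, one_mul, ← pow_add, add_comm] at e2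
          rw [e2]; exact pow_mem (mem_zpowers z0) _
        exact mem_of_pow_mem hx3 hm (by have := i.isLt; have := i'.isLt; have := Fin.val_ne_iff.2 hne'; omega)
      subst hi
      have := mul_left_cancel e'
      rw [pow_inj_mod, hz.order] at this
      exact Prod.ext rfl (Fin.ext (show (j : ℕ) = j' by have := j.isLt; have := j'.isLt; omega))
    have hsurj : Function.Surjective F := ((Nat.bijective_iff_injective_and_card F).2 ⟨hFi, le_antisymm
      (Nat.card_le_card_of_injective F hFi) (by simpa using hCd)⟩).2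
    obtain ⟨⟨i, j⟩, hij⟩ := hsurj ⟨h0 * x * h0⁻¹, mem_centralizer_singleton_iff.2 hc.eq.symm⟩
    have hij' : x ^ (i : ℕ) * z0 ^ (j : ℕ) = h0 * x * h0⁻¹ := congrArg Subtype.val hij
    have hw : z0 ^ (j : ℕ) ∈ Z := pow_mem (mem_zpowers z0) _
    rcases (show (i : ℕ) = 0 ∨ (i : ℕ) = 1 ∨ (i : ℕ) = 2 by omega) with e | e | e <;> rw [e] at hij'
    · rw [pow_zero, one_mul] at hij'
      apply hxn
      have := hconjZ h0⁻¹ (inv_mem hh0) _ hw
      rwa [hij', show h0⁻¹ * (h0 * x * h0⁻¹) * h0⁻¹⁻¹ = x by group] at this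
    · refine hcoset h0 hh0 hne1 x hx hxn ?_
      rw [← hij', pow_one, (hZc _ hw x hx).eq, mul_inv_cancel_right]
      exact hw
    · refine hcoset (h0 * h0) (mul_mem hh0 hh0) hne2 x hx hxn ?_
      have e2 : h0 * h0 * x * (h0 * h0)⁻¹ = x * (z0 ^ (j : ℕ)) ^ 2 * (z0 ^ (j : ℕ))⁻¹ := by
        calc h0 * h0 * x * (h0 * h0)⁻¹ = h0 * (h0 * x * h0⁻¹) * h0⁻¹ := by group
          _ = h0 * (x ^ 2 * z0 ^ (j : ℕ)) * h0⁻¹ := by rw [hij']
          _ = (h0 * x * h0⁻¹) ^ 2 * (h0 * z0 ^ (j : ℕ) * h0⁻¹) := by rw [conj_pow]; group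
          _ = (x ^ 2 * z0 ^ (j : ℕ)) ^ 2 * (z0 ^ (j : ℕ))⁻¹ := by rw [hinvZ _ hw, ← hij']
          _ = _ := by
            rw [((hZc _ hw x hx).pow_left 2).mul_pow, ← pow_mul x, show 2 * 2 = 3 + 1 from rfl, pow_succ, hx3,
              one_mul]
      rw [e2, mul_assoc x, (hZc _ (mul_mem (pow_mem hw 2) (inv_mem hw)) x hx).eq, mul_inv_cancel_right]
      exact mul_mem (pow_mem hw 2) (inv_mem hw)
  obtain ⟨x1, hx1, hx1n⟩ : ∃ x ∈ (T : Subgroup G), x ∉ Z := by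
    by_contra hcon
    push Not at hcon
    exact hab0 ((hZc b0 (hcon b0 hb0) a0 ha0).eq)
  -- normal form of the automorphism
  have hbasis : ∀ x ∈ (T : Subgroup G), ∀ y ∈ (T : Subgroup G), ¬ Commute x y →
      (∀ a < 3, ∀ b < 3, ∀ c < 3, ∀ a' < 3, ∀ b' < 3, ∀ c' < 3, word x y a b c = word x y a' b' c' →
        a = a' ∧ b = b' ∧ c = c') ∧
      ∀ g ∈ (T : Subgroup G), ∃ a < 3, ∃ b < 3, ∃ c < 3, word x y a b c = g :=
    fun x hx y hy hc => word_basis hT hZc (hcommT x hx y hy) hx hy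
      (fun g hg => orderOf_dvd_iff_pow_eq_one.1 (by
        rcases eq_or_ne g 1 with rfl | hg1
        · simp
        · rw [h.orderOf_sylow_three T hg hg1])) hc
  obtain ⟨g0, hg0, x, hx, y, hy, hxy, hgx, w, hw, hgy⟩ : ∃ g ∈ H, ∃ x ∈ (T : Subgroup G),
      ∃ y ∈ (T : Subgroup G), ¬ Commute x y ∧ g * x * g⁻¹ = y ∧ ∃ w ∈ Z, g * y * g⁻¹ = x * y * w := by
    let y1 := h0 * x1 * h0⁻¹
    have hy1 : y1 ∈ (T : Subgroup G) := hconjT h0 hh0 x1 hx1
    obtain ⟨-, hall⟩ := hbasis x1 hx1 y1 hy1 (hnc x1 hx1 hx1n)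
    obtain ⟨a, ha, b, hb, c, -, e⟩ := hall _ (hconjT h0 hh0 y1 hy1)
    let z1 := x1 * y1 * x1⁻¹ * y1⁻¹
    have hz1 : z1 ∈ Z := hcommT x1 hx1 y1 hy1
    have hz1ne : z1 ≠ 1 := fun e' => hnc x1 hx1 hx1n (mul_inv_eq_iff_eq_mul.1 (mul_inv_eq_one.1 e'))
    have hw1 : z1 ^ c ∈ Z := pow_mem hz1 c
    have e' : h0 * y1 * h0⁻¹ = x1 ^ a * y1 ^ b * z1 ^ c := e.symm
    have hconjz : h0 * z1 * h0⁻¹ = y1 * x1 ^ a * y1⁻¹ * (x1 ^ a)⁻¹ := by
      calc h0 * z1 * h0⁻¹ = y1 * (h0 * y1 * h0⁻¹) * y1⁻¹ * (h0 * y1 * h0⁻¹)⁻¹ := by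
            simp only [z1, y1]; group
        _ = y1 * (x1 ^ a * y1 ^ b) * (z1 ^ c * y1⁻¹) * (z1 ^ c)⁻¹ * (x1 ^ a * y1 ^ b)⁻¹ := by rw [e']; group
        _ = y1 * (x1 ^ a * y1 ^ b) * (y1⁻¹ * z1 ^ c) * (z1 ^ c)⁻¹ * (x1 ^ a * y1 ^ b)⁻¹ := by
            rw [((hZc _ hw1 y1 hy1).inv_left).eq]
        _ = _ := by group
    have hyx : y1 * x1 * y1⁻¹ = z1⁻¹ * x1 := by simp only [z1]; group
    have ha1 : a = 1 := by
      rw [hinvZ z1 hz1] at hconjz
      rcases (show a = 0 ∨ a = 1 ∨ a = 2 by omega) with rfl | rfl | rfl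
      · exact absurd (inv_eq_one.1 (by simpa using hconjz)) hz1ne
      · rfl
      · refine absurd (hsq z1 hz1 ?_) hz1ne
        have e3 : y1 * x1 ^ 2 * y1⁻¹ = (z1⁻¹) ^ 2 * x1 ^ 2 := by
          rw [← conj_pow, hyx, ((hZc _ (inv_mem hz1) x1 hx1).symm).mul_pow]
        rw [e3, mul_inv_cancel_right] at hconjz
        rw [hconjz, inv_pow]
        exact (inv_eq_of_mul_eq_one_right (by rw [← pow_succ]; exact hz3 z1 hz1)).trans rfl |>.symm
    subst ha1
    rw [pow_one] at e'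
    rcases (show b = 0 ∨ b = 1 ∨ b = 2 by omega) with rfl | rfl | rfl
    · exfalso
      refine hcoset (h0 * h0) (mul_mem hh0 hh0) hne2 x1 hx1 hx1n ?_
      have e2 : h0 * h0 * x1 * (h0 * h0)⁻¹ = x1 * z1 ^ c := by
        rw [pow_zero, mul_one] at e'
        rw [← e']; simp only [y1]; group
      rw [e2, (hZc _ hw1 x1 hx1).eq, mul_inv_cancel_right]
      exact hw1
    · exact ⟨h0, hh0, x1, hx1, y1, hy1, hnc x1 hx1 hx1n, rfl, z1 ^ c, hw1, by rw [e', pow_one]⟩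
    · refine ⟨h0⁻¹, inv_mem hh0, y1, hy1, x1, hx1, fun hc => hnc x1 hx1 hx1n hc.symm,
        by simp only [y1]; group, z1 ^ c, hw1, ?_⟩
      have e4 : h0 * z1 ^ c * h0⁻¹ = (z1 ^ c)⁻¹ := hinvZ _ hw1
      have hy3 : y1 ^ 3 = 1 := by
        rcases eq_or_ne y1 1 with hy0 | hy0
        · rw [hy0, one_pow]
        · exact orderOf_dvd_iff_pow_eq_one.1 (dvd_of_eq (h.orderOf_sylow_three T hy1 hy0))
      have hx13 : x1 ^ 3 = 1 := orderOf_dvd_iff_pow_eq_one.1 (dvd_of_eq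
        (h.orderOf_sylow_three T hx1 fun e => hx1n (e ▸ one_mem _)))
      rw [inv_inv]
      refine (MulAut.conj h0).injective ?_
      simp only [MulAut.conj_apply]
      rw [show h0 * (h0⁻¹ * x1 * h0) * h0⁻¹ = x1 by group]
      symm
      calc h0 * (y1 * x1 * z1 ^ c) * h0⁻¹ =
            (h0 * y1 * h0⁻¹) * (h0 * x1 * h0⁻¹) * (h0 * z1 ^ c * h0⁻¹) := by group
        _ = (x1 * y1 ^ 2 * z1 ^ c) * y1 * (z1 ^ c)⁻¹ := by rw [e', e4]
        _ = x1 * y1 ^ 2 * (y1 * z1 ^ c) * (z1 ^ c)⁻¹ := by rw [(hZc _ hw1 y1 hy1).eq]; group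
        _ = x1 * y1 ^ 3 := by group
        _ = x1 := by rw [hy3, mul_one]
  -- shift
  have hwc : ∀ a ∈ (T : Subgroup G), Commute a w := fun a ha => hZc w hw a ha
  let z := x * y * x⁻¹ * y⁻¹
  have hzZ : z ∈ Z := hcommT x hx y hy
  have hzne : z ≠ 1 := fun e => hxy (mul_inv_eq_iff_eq_mul.1 (mul_inv_eq_one.1 e))
  have hgz : g0 * z * g0⁻¹ = z⁻¹ := by
    calc g0 * z * g0⁻¹ = y * (g0 * y * g0⁻¹) * y⁻¹ * (g0 * y * g0⁻¹)⁻¹ := by simp only [z, ← hgx]; group
      _ = y * x * y * (w * y⁻¹) * w⁻¹ * y⁻¹ * x⁻¹ := by rw [hgy]; group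
      _ = y * x * y * (y⁻¹ * w) * w⁻¹ * y⁻¹ * x⁻¹ := by rw [((hwc y hy).inv_left).eq]
      _ = z⁻¹ := by simp only [z]; group
  have hZz : Z = zpowers z := (Subgroup.eq_of_le_of_card_ge (zpowers_le.2 hzZ) (by
    rw [Nat.card_zpowers, Nat.card_zpowers, hz.order, h.orderOf_sylow_three T (hZT z hzZ) hzne])).symm
  have hgw : g0 * w * g0⁻¹ = w⁻¹ := by
    obtain ⟨i, hi⟩ := mem_zpowers_iff.1 (hZz ▸ hw : w ∈ zpowers z)
    rw [← hi, ← conj_zpow, hgz, inv_zpow]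
  let x' := x * w⁻¹
  let y' := y * w
  have hx' : x' ∈ (T : Subgroup G) := mul_mem hx (hZT _ (inv_mem hw))
  have hy' : y' ∈ (T : Subgroup G) := mul_mem hy (hZT _ hw)
  have hprod : x' * y' = x * y := by
    simp only [x', y']
    calc x * w⁻¹ * (y * w) = x * (w⁻¹ * y) * w := by group
      _ = x * (y * w⁻¹) * w := by rw [((hwc y hy).inv_right).eq]
      _ = x * y := by group
  have hgx' : g0 * x' * g0⁻¹ = y' := by
    calc g0 * (x * w⁻¹) * g0⁻¹ = (g0 * x * g0⁻¹) * (g0 * w * g0⁻¹)⁻¹ := by group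
      _ = y * w := by rw [hgx, hgw, inv_inv]
  have hgy' : g0 * y' * g0⁻¹ = x' * y' := by
    calc g0 * (y * w) * g0⁻¹ = (g0 * y * g0⁻¹) * (g0 * w * g0⁻¹) := by group
      _ = x' * y' := by rw [hgy, hgw, mul_inv_cancel_right, hprod]
  have hxy' : ¬ Commute x' y' := fun hc => hxy (by
    have h1 : Commute (x' * w) (y' * w⁻¹) :=
      (hc.mul_right (hwc x' hx').inv_right).mul_left
        (((hwc y' hy').symm).mul_right ((Commute.refl w).inv_right))
    simpa [x', y'] using h1)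
  have hz' := hcommT x' hx' y' hy'
  obtain ⟨hinj, hsur⟩ := hbasis x' hx' y' hy' hxy'
  have hwordT : ∀ a b c, word x' y' a b c ∈ (T : Subgroup G) := fun a b c =>
    mul_mem (mul_mem (pow_mem hx' a) (pow_mem hy' b)) (pow_mem (hZT _ hz') c)
  clear_value x' y'
  have h83 : g0 ^ 4 ≠ 1 := by
    intro e
    have e2 : g0 * g0 * x' * (g0 * g0)⁻¹ = x' * y' := by
      calc g0 * g0 * x' * (g0 * g0)⁻¹ = g0 * (g0 * x' * g0⁻¹) * g0⁻¹ := by group
        _ = _ := by rw [hgx', hgy']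
    have e2' : g0 * g0 * y' * (g0 * g0)⁻¹ = y' * (x' * y') := by
      calc g0 * g0 * y' * (g0 * g0)⁻¹ = g0 * (g0 * y' * g0⁻¹) * g0⁻¹ := by group
        _ = g0 * (x' * y') * g0⁻¹ := by rw [hgy']
        _ = (g0 * x' * g0⁻¹) * (g0 * y' * g0⁻¹) := by group
        _ = _ := by rw [hgx', hgy']
    have e4 : x' = x' * y' * (y' * (x' * y')) := by
      have e' : g0 * g0 * (g0 * g0) = 1 := by rw [← e]; simp only [pow_succ, pow_zero, one_mul, mul_assoc]
      calc x' = g0 * g0 * (g0 * g0) * x' * (g0 * g0 * (g0 * g0))⁻¹ := by rw [e']; group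
        _ = g0 * g0 * (g0 * g0 * x' * (g0 * g0)⁻¹) * (g0 * g0)⁻¹ := by group
        _ = g0 * g0 * (x' * y') * (g0 * g0)⁻¹ := by rw [e2]
        _ = (g0 * g0 * x' * (g0 * g0)⁻¹) * (g0 * g0 * y' * (g0 * g0)⁻¹) := by group
        _ = _ := by rw [e2, e2']
    apply hxy'
    rw [mul_assoc, left_eq_mul] at e4
    have e5 : x' = (y' ^ 3)⁻¹ := by
      calc x' = (y' * y')⁻¹ * (y' * (y' * (x' * y'))) * y'⁻¹ := by group
        _ = _ := by rw [e4]; group
    rw [e5]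
    exact ((Commute.refl y').pow_left 3).inv_left
  have hexp : ∀ a ∈ (T : Subgroup G), a ^ 3 = 1 := fun a ha => by
    rcases eq_or_ne a 1 with rfl | ha1
    · exact one_pow 3
    · exact orderOf_dvd_iff_pow_eq_one.1 (dvd_of_eq (h.orderOf_sylow_three T ha ha1))
  have h8 : orderOf g0 = 8 := by
    obtain ⟨i, hi, hi'⟩ := (Nat.dvd_prime_pow Nat.prime_two (m := 3)).1
      (hH ▸ (Subgroup.orderOf_coe ⟨g0, hg0⟩ ▸ orderOf_dvd_natCard (⟨g0, hg0⟩ : H)))
    rcases (show i = 3 ∨ i ≤ 2 by omega) with rfl | hi2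
    · exact hi'
    · exact absurd (orderOf_dvd_iff_pow_eq_one.1 ((dvd_of_eq hi').trans (pow_dvd_pow 2 hi2))) h83
  have hHz : H = zpowers g0 := (Subgroup.eq_of_le_of_card_ge (zpowers_le.2 hg0)
    (by rw [Nat.card_zpowers, h8, hH])).symm
  -- the swap
  obtain ⟨s, hs⟩ := exists_prime_orderOf_dvd_card' (G := G) 2 (hp := ⟨Nat.prime_two⟩) (by rw [hN]; norm_num)
  have hs2 : s * s = 1 := by rw [← pow_two]; exact orderOf_dvd_iff_pow_eq_one.1 (dvd_of_eq hs)
  obtain ⟨R, hR⟩ : ∃ R : Sylow 3 G, s • R ≠ R := by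
    by_contra hcon
    push Not at hcon
    have hsH : s ∈ H := (hHmem s).2 ⟨hcon T, hcon Q⟩
    have hs1 : s ≠ 1 := fun e => by rw [e, orderOf_one] at hs; norm_num at hs
    have hxn : x' ∉ Z := fun hm => hxy' (hZc x' hm y' hy').symm
    refine hcoset s hsH hs1 x' hx' hxn ?_
    rw [hfree _ (mul_mem (hconjT s hsH x' hx') (inv_mem hx'))]
    · exact one_mem _
    · rw [mul_smul, mul_smul, mul_smul, inv_smul_eq_iff.2 (hcon (x'⁻¹ • Q)).symm, smul_inv_smul]
      exact hcon Q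
  obtain ⟨g1, hg1⟩ := MulAction.exists_smul_eq G R T
  obtain ⟨a, ha⟩ := hreg (g1 • (s • R)) fun e => hR (smul_left_cancel g1 (e.trans hg1.symm))
  let g := (a : G)⁻¹ * g1
  have hgR : g • R = T := by rw [mul_smul, hg1, hfix _ (inv_mem a.2)]
  have hgS : g • (s • R) = Q := by rw [mul_smul, ← ha, inv_smul_smul]
  exact ⟨⟨T, Q, x', y', g0, g * s * g⁻¹, hne, hx', hy', ((hHmem _).1 hg0).1, ((hHmem _).1 hg0).2,
    hexp x' hx', hexp y' hy', hz3 _ hz', hZc _ hz' x' hx', hZc _ hz' y' hy', hgx', hgy',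
    fun a ha b hb c hc a' ha' b' hb' c' hc' e => hinj a ha b hb c hc a' ha' b' hb' c' hc'
      (inv_mul_eq_one.1 (hfree _ (mul_mem (inv_mem (hwordT a' b' c')) (hwordT a b c))
        (by rw [mul_smul, e, inv_smul_smul]))).symm,
    fun R hR' => by
      obtain ⟨v, hv⟩ := hreg R hR'
      obtain ⟨a, ha, b, hb, c, hc, e⟩ := hsur v v.2
      exact ⟨a, ha, b, hb, c, hc, by rw [e, hv]⟩,
    fun k hk hk' => hHz ▸ (hHmem k).2 ⟨hk, hk'⟩, h8,
    by rw [mul_smul, mul_smul, inv_smul_eq_iff.2 hgR.symm, hgS],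
    by rw [show g * s * g⁻¹ * (g * s * g⁻¹) = g * (s * s) * g⁻¹ by group, hs2]; group⟩⟩

end CfsgLib.UThreeRecog
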