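import Mathlib.Tactic

/-!
The model on twenty-eight points: a point below 27 is a triple of digits `9a+3b+c`, the point 27 is the fixed one.
-/

set_option autoImplicit false

namespace CfsgLib.UThreeRecog.Model

/-- the point with given digits -/
def pt (a b c : ℕ) : ℕ := 9 * (a % 3) + 3 * (b % 3) + c % 3

/-- apply a list as a map -/
def ap (l : List ℕ) (i : ℕ) : ℕ := l.getD i 0

/-- composition -/
def mul (p q : List ℕ) : List ℕ := q.map (ap p)

/-- a list from a map on digits -/
def ofDig (f : ℕ → ℕ → ℕ → ℕ) : List ℕ := (List.range 27).map (fun i => f (i / 9) (i / 3 % 3) (i % 3)) ++ [27]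

/-- the first generator -/
def mX : List ℕ := ofDig fun a b c => pt (a + 1) b c

/-- the second generator -/
def mY : List ℕ := ofDig fun a b c => pt a (b + 1) (c + 2 * a)

/-- the central element -/
def mZ : List ℕ := ofDig fun a b c => pt a b (c + 1)

/-- the generator of the stabiliser of two points -/
def mH : List ℕ := ofDig fun a b c => pt b (a + b) (2 * c + 2 * (a * b) + 2 * (b * (b - 1) / 2))

/-- the identity -/
def mI : List ℕ := List.range 28

/-- powers -/
def pw (p : List ℕ) : ℕ → List ℕ
  | 0 => mI
  | n + 1 => mul p (pw p n)

/-- the inverse of the translation by a point -/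
def linv (q : ℕ) : List ℕ :=
  mul (pw mZ (2 * (q % 3) % 3)) (mul (pw mY (2 * (q / 3 % 3) % 3)) (pw mX (2 * (q / 9) % 3)))

/-- membership in the point stabiliser -/
def inB (g : List ℕ) : Bool :=
  let g' := mul (linv (ap g 0)) g
  [0, 1, 2, 3, 4, 5, 6, 7].any fun m => decide (g' = pw mH m)

/-- the necessary condition on the involution -/
def test (t : List ℕ) : Bool :=
  let g := mul t (mul mX t)
  let q := ap g 27
  if q = 27 then inB g else inB (mul t (mul (linv q) g))

/-- the involution found -/
def t1 : List ℕ :=
  [27, 2, 1, 11, 24, 7, 12, 5, 18, 15, 10, 3, 6, 13, 17, 9, 21, 14, 8, 23, 20, 16, 26, 19, 4, 25, 22, 0]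

/-- the other one -/
def t2 : List ℕ :=
  [27, 2, 1, 18, 12, 5, 24, 7, 11, 23, 20, 8, 4, 25, 22, 19, 16, 26, 3, 15, 10, 21, 14, 9, 6, 13, 17, 0]

theorem t2_eq : mul (pw mH 4) t2 = t1 := by decide +kernel

/-- a candidate is rejected or known -/
def good (t : List ℕ) : Bool := !test t || decide (t = t1) || decide (t = t2)

/-- set a value, 28 meaning unknown -/
def setp (s : List ℕ) (u v : ℕ) : Option (List ℕ) :=
  if ap s u = 28 then some (s.set u v) else if ap s u = v then some s else none

/-- propagate one choice through the stabiliser -/
def prop (k : ℕ) : ℕ → List ℕ → ℕ → ℕ → Option (List ℕ)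
  | 0, s, _, _ => some s
  | n + 1, s, i, j => match setp s i j with
    | none => none
    | some s' => match setp s' j i with
      | none => none
      | some s'' => prop k n s'' (ap mH i) (ap (pw mH k) j)

/-- the first unknown value -/
def free (s : List ℕ) : Option ℕ := (List.range 28).find? fun i => decide (ap s i = 28)

/-- every completion is good -/
def dfs (k : ℕ) : ℕ → List ℕ → Bool
  | 0, _ => false
  | n + 1, s => match free s with
    | none => good s
    | some i => (List.range 28).all fun j => match prop k 8 s i j with
      | none => true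
      | some s' => dfs k n s'

/-- the start -/
def start : List ℕ := ((List.replicate 28 28).set 0 27).set 27 0

theorem dfs_one : dfs 1 28 start = true := by decide +kernel

theorem dfs_three : dfs 3 28 start = true := by decide +kernel

theorem dfs_five : dfs 5 28 start = true := by decide +kernel

theorem dfs_seven : dfs 7 28 start = true := by decide +kernel

end CfsgLib.UThreeRecog.Model
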