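import Cfsg.Agent.Lib.UThreeRecog.Coord

/-!
An involutory automorphism fixing an element of order seven is trivial.
-/

set_option autoImplicit false

namespace CfsgLib.UThreeRecog

open Subgroup
open scoped Pointwise

universe u

variable {D : Type u} [Group D] [Finite D] [IsSimpleGroup D]

theorem aut_eq_one (hN : Nat.card D = 6048) (h : Sparse D) (α : MulAut D) (h2 : α * α = 1) {u : D}
    (hu : orderOf u = 7) (hαu : α u = u) : α = 1 := by
  classical
  obtain ⟨W⟩ := exists_weight hN h
  obtain ⟨hn, hNc⟩ := sylow_three_count W hN h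
  obtain ⟨F⟩ := exists_frame hN h
  -- an element of order three normalising
  obtain ⟨U, hU⟩ := (IsPGroup.of_card (p := 7) (n := 1) (G := ↥(zpowers u))
    (by rw [Nat.card_zpowers, hu, pow_one])).exists_le_sylow
  obtain ⟨hUc, hC⟩ := h.card_centralizer_seven (a := 5) (b := 3) (by rw [hN]; norm_num) U
  have hUz : (U : Subgroup D) = zpowers u :=
    (Subgroup.eq_of_le_of_card_ge hU (by rw [hUc, Nat.card_zpowers, hu])).symm
  have hCU : centralizer ((U : Subgroup D) : Set D) = (U : Subgroup D) := by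
    refine (Subgroup.eq_of_le_of_card_ge ?_ (by rw [hC, hUc])).symm
    rw [hUz]
    intro g hg
    rw [mem_centralizer_iff]
    intro k hk
    obtain ⟨i, rfl⟩ := mem_zpowers_iff.1 hg
    obtain ⟨j, rfl⟩ := mem_zpowers_iff.1 hk
    exact Commute.zpow_zpow (Commute.refl u) j i
  have hαU : ∀ v ∈ (U : Subgroup D), α v = v := fun v hv => by
    rw [hUz] at hv
    obtain ⟨i, rfl⟩ := mem_zpowers_iff.1 hv
    rw [map_zpow, hαu]
  obtain ⟨xs, hxs⟩ := exists_prime_orderOf_dvd_card' (G := ↥(normalizer ((U : Subgroup D) : Set D))) 3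
    (by rw [card_normalizer_seven hN h U]; norm_num)
  obtain ⟨x, hxN⟩ := xs
  rw [Subgroup.orderOf_mk] at hxs
  have hαx : α x = x := by
    have hxu : x * u * x⁻¹ ∈ (U : Subgroup D) :=
      (Subgroup.mem_normalizer_iff.1 hxN u).1 (hUz.symm ▸ mem_zpowers u)
    have hc : (α x)⁻¹ * x ∈ centralizer ((U : Subgroup D) : Set D) := by
      rw [hUz, mem_centralizer_iff]
      intro k hk
      obtain ⟨i, rfl⟩ := mem_zpowers_iff.1 hk
      refine Commute.zpow_left ?_ i
      have e : α x * u * (α x)⁻¹ = x * u * x⁻¹ := by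
        conv_rhs => rw [← hαU _ hxu]
        simp only [map_mul, map_inv, hαu]
      show u * ((α x)⁻¹ * x) = (α x)⁻¹ * x * u
      calc u * ((α x)⁻¹ * x) = (α x)⁻¹ * (α x * u * (α x)⁻¹) * x := by group
        _ = _ := by rw [e]; group
    rw [hCU] at hc
    have hinv := hαU _ hc
    have hαα : α (α x) = x := by
      show (α * α) x = x
      rw [h2]; rfl
    rw [map_mul, map_inv, hαα] at hinv
    set c := (α x)⁻¹ * x with hcdef
    have hc2 : c ^ 2 = 1 := by
      have : c⁻¹ = c := by rw [hcdef, mul_inv_rev, inv_inv]; exact hinv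
      rw [pow_two]; nth_rewrite 1 [← this]; exact inv_mul_cancel c
    have h7 : orderOf c ∣ 7 := hUc ▸ Subgroup.orderOf_coe (⟨c, hc⟩ : ↥(U : Subgroup D)) ▸ orderOf_dvd_natCard _
    have : orderOf c ∣ 1 := by
      rw [← show Nat.gcd 7 2 = 1 by norm_num]
      exact Nat.dvd_gcd h7 (orderOf_dvd_of_pow_eq_one hc2)
    exact (inv_mul_eq_one.1 (orderOf_eq_one_iff.1 (Nat.dvd_one.1 this))).trans rfl
  -- the fixed Sylow subgroups
  have hsmul : ∀ (d : D) (R : Sylow 3 D), α • (d • R) = α d • (α • R) := fun d R => by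
    rw [Sylow.smul_def, Sylow.smul_def, smul_smul, smul_smul]
    congr 1
    ext v
    simp only [MulAut.mul_apply, MulAut.conj_apply, map_mul, map_inv]
  have hmem : ∀ (R : Sylow 3 D) (v : D), v ∈ (R : Subgroup D) → α v ∈ ((α • R : Sylow 3 D) : Subgroup D) :=
    fun R v hv => by
      rw [Sylow.pointwise_smul_def]
      exact Subgroup.smul_mem_pointwise_smul v α _ hv
  obtain ⟨T, hT'⟩ := (IsPGroup.of_card (p := 3) (n := 1) (G := ↥(zpowers x))
    (by rw [Nat.card_zpowers, hxs, pow_one])).exists_le_sylow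
  have hxT : x ∈ (T : Subgroup D) := hT' (mem_zpowers x)
  have hαT : α • T = T := by
    by_contra hne
    have := inter_eq_bot W hN h hne
    have hx1 : x ∈ (⊥ : Subgroup D) := this ▸ ⟨hxT, hαx ▸ hmem T x hxT⟩
    rw [Subgroup.mem_bot.1 hx1, orderOf_one] at hxs
    norm_num at hxs
  let X := {R : Sylow 3 D // α • R = R}
  let act : MulAction ↥(zpowers u) X :=
    { smul := fun g R => ⟨(g : D) • R.1, by rw [hsmul, R.2, hαU _ (hUz.symm ▸ g.2)]⟩
      one_smul := fun R => Subtype.ext (one_smul D R.1)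
      mul_smul := fun a b R => Subtype.ext (mul_smul (a : D) (b : D) R.1) }
  have h7 : 7 ∣ Nat.card X := by
    have hd := (IsPGroup.of_card (p := 7) (n := 1) (G := ↥(zpowers u))
      (by rw [Nat.card_zpowers, hu, pow_one])).card_modEq_card_fixedPoints (α := X)
    have : IsEmpty (MulAction.fixedPoints ↥(zpowers u) X) := ⟨fun ⟨R, hR⟩ => by
      have hR' : u • R.1 = R.1 := congrArg Subtype.val (hR ⟨u, mem_zpowers u⟩)
      have := orderOf_dvd_natCard (⟨u, Sylow.smul_eq_iff_mem_normalizer.1 hR'⟩ :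
        ↥(normalizer ((R.1 : Subgroup D) : Set D)))
      rw [Subgroup.orderOf_mk, hu, hNc] at this
      norm_num at this⟩
    rw [Nat.card_of_isEmpty (α := MulAction.fixedPoints ↥(zpowers u) X)] at hd
    exact (Nat.modEq_zero_iff_dvd).1 hd
  -- all of them are fixed
  have hall : ∀ R : Sylow 3 D, α • R = R := by
    obtain ⟨Q, hQne, hQ⟩ : ∃ Q : Sylow 3 D, Q ≠ T ∧ α • Q = Q := by
      by_contra hcon
      push Not at hcon
      have : Subsingleton X := ⟨fun a b => Subtype.ext ((by_contra fun e => hcon a.1 e a.2).trans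
        (by_contra fun e => hcon b.1 e b.2).symm)⟩
      rw [Nat.card_of_subsingleton (⟨T, hαT⟩ : X)] at h7
      norm_num at h7
    have hT := card_sylow_three hN T
    have hfix : ∀ g ∈ (T : Subgroup D), g • T = T := fun g hg => smul_fix_iff.2 (le_normalizer hg)
    have hfree : ∀ g ∈ (T : Subgroup D), g • Q = Q → g = 1 := fun g hg he => by
      have hgQ := mem_of_normalizes Q hg (smul_fix_iff.1 he)
      exact Subgroup.mem_bot.1 (inter_eq_bot W hN h hQne ▸ ⟨hg, hgQ⟩)
    let Φ : ↥(T : Subgroup D) → {R : Sylow 3 D // R ≠ T} := fun g => ⟨(g : D) • Q, fun e => hQne (by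
      have := congrArg ((g : D)⁻¹ • ·) e
      simp only [inv_smul_smul] at this
      rw [this, hfix _ (inv_mem g.2)])⟩
    have hΦ : Function.Bijective Φ := (Nat.bijective_iff_injective_and_card Φ).2 ⟨fun a b e => by
        have e' : (a : D) • Q = (b : D) • Q := congrArg Subtype.val e
        have := hfree _ (mul_mem (inv_mem b.2) a.2) (by rw [mul_smul, e', inv_smul_smul])
        exact Subtype.ext (inv_mul_eq_one.1 this).symm, by
      have := Fintype.ofFinite (Sylow 3 D)
      rw [hT, Nat.card_eq_fintype_card, Fintype.card_subtype_compl, Fintype.card_subtype_eq,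
        ← Nat.card_eq_fintype_card, hn]⟩
    let K : Subgroup D := (T : Subgroup D) ⊓ MonoidHom.eqLocus α.toMonoidHom (MonoidHom.id D)
    have hKmem : ∀ g, g ∈ K ↔ g ∈ (T : Subgroup D) ∧ α g = g := fun g => Iff.rfl
    let Ψ : ↥K ⊕ PUnit.{1} → X := fun s => match s with
      | Sum.inl g => ⟨(g : D) • Q, by rw [hsmul, ((hKmem _).1 g.2).2, hQ]⟩
      | Sum.inr _ => ⟨T, hαT⟩
    have hΨ : Function.Bijective Ψ := by
      refine ⟨?_, fun R => ?_⟩
      · rintro (a | a) (b | b) e
        · have e2 := hΦ.1 (a₁ := ⟨a, ((hKmem _).1 a.2).1⟩) (a₂ := ⟨b, ((hKmem _).1 b.2).1⟩)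
            (Subtype.ext (congrArg (fun S : X => S.1) e :))
          exact congrArg Sum.inl (Subtype.ext (congrArg (fun S : ↥(T : Subgroup D) => (S : D)) e2 :))
        · exact absurd (congrArg Subtype.val e) (Φ ⟨a, ((hKmem _).1 a.2).1⟩).2
        · exact absurd (congrArg Subtype.val e).symm (Φ ⟨b, ((hKmem _).1 b.2).1⟩).2
        · rfl
      · by_cases hR : R.1 = T
        · exact ⟨Sum.inr PUnit.unit, Subtype.ext hR.symm⟩
        · obtain ⟨g, hg⟩ := hΦ.2 ⟨R.1, hR⟩
          have hg' : (g : D) • Q = R.1 := congrArg Subtype.val hg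
          have hαg : α g ∈ (T : Subgroup D) := by
            have := hmem T g g.2
            rwa [hαT] at this
          have : α g = g := by
            have e := R.2
            rw [← hg', hsmul, hQ] at e
            exact congrArg Subtype.val (hΦ.1 (a₁ := ⟨α g, hαg⟩) (a₂ := g) (Subtype.ext e))
          exact ⟨Sum.inl ⟨g, (hKmem _).2 ⟨g.2, this⟩⟩, Subtype.ext hg'⟩
    have hX : Nat.card X = Nat.card K + 1 := by
      rw [← Nat.card_eq_of_bijective Ψ hΨ, Nat.card_sum, Nat.card_unique (α := PUnit.{1})]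
    have hKd : Nat.card K ∣ 27 := hT ▸ Subgroup.card_dvd_of_le inf_le_left
    obtain ⟨i, hi, hi'⟩ := (Nat.dvd_prime_pow Nat.prime_three (m := 3)).1 hKd
    have h28 : Nat.card X = 28 := by
      rw [hX, hi'] at h7 ⊢
      interval_cases i <;> first | rfl | (norm_num at h7)
    intro R
    exact ((Nat.bijective_iff_injective_and_card (Subtype.val : X → Sylow 3 D)).2
      ⟨Subtype.val_injective, by rw [h28, hn]⟩).2 R |>.elim fun S hS => hS ▸ S.2
  refine MulEquiv.ext fun d => F.injective_toPerm (Equiv.ext fun R => ?_)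
  show α d • R = d • R
  calc α d • R = α d • (α • R) := by rw [hall R]
    _ = α • (d • R) := (hsmul d R).symm
    _ = d • R := hall _

end CfsgLib.UThreeRecog
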