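import Cfsg.Agent.Lib.UThreeRecog.Basic
import Cfsg.Agent.Lib.Recog.CubicRecurrence
import Cfsg.Agent.Lib.Recog.SmallSpectra
import Cfsg.Agent.Lib.Chev.G2Small

/-!
Facts on the unitary group of degree three over nine elements.
-/

set_option autoImplicit false

namespace CfsgLib.UThreeRecog

open CfsgLib.Recog CfsgLib.Recog.Cubic CfsgLib.Recog.SmallSpectra

universe u

theorem psu_pows {F : Type u} [Field F] [Fintype F] (hF : Fintype.card F = 9) (x : Cfsg.PSU 3 F 3) :
    ∃ N : ℕ, (N = 7 ∨ N = 8 ∨ N = 12) ∧ x ^ N = 1 := by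
  classical
  haveI : Fact (Nat.Prime 3) := ⟨by norm_num⟩
  haveI : CharP F 3 := charP_of_card_eq_prime_pow (f := 2) (by rw [hF]; norm_num)
  letI : Algebra (ZMod 3) F := ZMod.algebra F 3
  obtain ⟨i, hi⟩ : IsSquare (-1 : F) := FiniteField.isSquare_neg_one_iff.mpr (by rw [hF]; norm_num)
  let ψ : R9 →+* F := (QuadraticAlgebra.lift ⟨i, by simp [← hi]⟩).toRingHom
  have hψi : Function.Injective ψ := by
    rw [injective_iff_map_eq_zero]
    intro z hz
    by_contra h
    obtain ⟨w, hw⟩ := r9_inv z h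
    have := congrArg ψ hw
    rw [map_mul, hz, zero_mul, map_one] at this
    exact zero_ne_one this
  have hψs : Function.Surjective ψ :=
    ((Fintype.bijective_iff_injective_and_card ψ).mpr ⟨hψi, by rw [r9_card, hF]⟩).2
  have hF' : Fintype.card F = 3 ^ 2 := by rw [hF]; norm_num
  have hZ : Subgroup.center (Cfsg.SU 3 F 3) = ⊥ :=
    Subgroup.eq_bot_of_card_eq _ (by rw [CfsgLib.Classical.Herm.card_center_su' hF' (by norm_num)]; decide)
  let e : Cfsg.PSU 3 F 3 ≃* Cfsg.SU 3 F 3 :=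
    (QuotientGroup.quotientMulEquivOfEq hZ).trans QuotientGroup.quotientBot
  let φ : F →+* F := frobenius F 3
  have hφ : ∀ x, φ x = x ^ 3 := fun x => frobenius_def 3 x
  obtain ⟨t, ht⟩ := hψs ((e x).1).1.trace
  obtain ⟨N, hN, hP⟩ := r9_pows t
  refine ⟨N, by simp only [Finset.mem_insert, Finset.mem_singleton] at hN; omega, e.injective ?_⟩
  rw [map_pow, map_one]
  refine Subtype.ext ?_
  rw [Subgroup.coe_pow, Subgroup.coe_one]
  refine sl_pow_eq_one _ ?_
  rw [trace_adjugate_of_su φ _ (e x).1.2 (of_mem_su 3 (by norm_num) φ hφ (e x).2), hφ, ← ht,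
    ← map_pow, cubicPow_map, hP]
  simp

theorem sparse_psu {F : Type u} [Field F] [Fintype F] (hF : Fintype.card F = 9) : Sparse (Cfsg.PSU 3 F 3) := by
  refine ⟨fun g hg => ?_, fun g hg => ?_, fun g hg => ?_⟩ <;>
  · obtain ⟨N, hN, hp⟩ := psu_pows hF g
    have := orderOf_dvd_of_pow_eq_one hp
    rw [hg] at this
    rcases hN with rfl | rfl | rfl <;> norm_num at this

theorem card_psu_three_three {F : Type u} [Field F] [Fintype F] (hF : Fintype.card F = 9) :
    Nat.card (Cfsg.PSU 3 F 3) = 6048 := by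
  obtain ⟨U⟩ := CfsgLib.UThree.exists_nine hF
  have h1 := Subgroup.card_eq_card_quotient_mul_card_subgroup (Subgroup.center (Cfsg.SU 3 F 3))
  rw [CfsgLib.UThree.card_SU U, CfsgLib.UThree.card_center_SU U, mul_one] at h1
  exact h1.symm

theorem simple_psu_three_three {F : Type u} [Field F] [Fintype F] (hF : Fintype.card F = 9) :
    IsSimpleGroup (Cfsg.PSU 3 F 3) := by
  obtain ⟨U⟩ := CfsgLib.UThree.exists_nine hF
  have := CfsgLib.Chev.G2Small.simple_SU U
  have : Nontrivial (Cfsg.PSU 3 F 3) := Finite.one_lt_card_iff_nontrivial.1 (by rw [card_psu_three_three hF]; norm_num)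
  exact IsSimpleGroup.isSimpleGroup_of_surjective (QuotientGroup.mk' (Subgroup.center (Cfsg.SU 3 F 3)))
    (QuotientGroup.mk'_surjective _)

end CfsgLib.UThreeRecog
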