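import Cfsg.Agent.Lib.UThreeRecog.Psu
import Cfsg.Agent.Lib.UThreeRecog.Coord
import Cfsg.Agent.Lib.UThreeRecog.Excluded
import Cfsg.Agent.Lib.AutPSU.Bridge

/-!
A group of order 12096 without elements of order 9, 14, 21.
-/

set_option autoImplicit false

namespace CfsgLib.UThreeRecog

open Subgroup CfsgLib.SmallOrder
open scoped Pointwise

universe u

theorem card_sylow_seven_of_le {G : Type u} [Group G] [Finite G] (K : Subgroup G)
    (hK : ∀ P : Sylow 7 G, (P : Subgroup G) ≤ K) : Nat.card (Sylow 7 K) = Nat.card (Sylow 7 G) := by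
  symm
  refine Nat.card_eq_of_bijective (fun P => P.subtype (hK P))
    ⟨fun P Q e => Sylow.subtype_injective e, fun Q => ?_⟩
  obtain ⟨P, hP⟩ := Q.exists_comap_subtype_eq
  exact ⟨P, Sylow.ext hP⟩

theorem relIndex_sup_of_le_normalizer {G : Type u} [Group G] (A B : Subgroup G) (h : B ≤ normalizer (A : Set G)) :
    A.relIndex (A ⊔ B) = A.relIndex B := by
  have hn : (A.subgroupOf (A ⊔ B)).Normal :=
    Subgroup.normal_subgroupOf_of_le_normalizer (sup_le le_normalizer h)
  have h1 := Subgroup.relIndex_sup_right (B.subgroupOf (A ⊔ B)) (A.subgroupOf (A ⊔ B))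
  rw [← Subgroup.subgroupOf_sup le_sup_right le_sup_left, sup_comm B A, Subgroup.subgroupOf_self,
    Subgroup.relIndex_top_right, Subgroup.relIndex_subgroupOf le_sup_right] at h1
  exact h1

variable {G : Type u} [Group G] [Finite G]

theorem Sparse.subgroup (h : Sparse G) (K : Subgroup G) : Sparse K :=
  ⟨fun g => Subgroup.orderOf_coe g ▸ h.nine _, fun g => Subgroup.orderOf_coe g ▸ h.fourteen _,
    fun g => Subgroup.orderOf_coe g ▸ h.twentyone _⟩

theorem fixed_point_seven (h : Sparse G) {u : G} (hu : orderOf u = 7) (R : Subgroup G)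
    (hR : u ∈ normalizer (R : Set G)) (hd : ∀ x ∈ R, x ≠ 1 → 2 ∣ orderOf x ∨ 3 ∣ orderOf x) :
    Nat.card R % 7 = 1 := by
  classical
  let act : MulAction ↥(zpowers u) ↥R :=
    { smul := fun g r => ⟨(g : G) * r * (g : G)⁻¹,
        (Subgroup.mem_normalizer_iff.1 (zpowers_le.2 hR g.2) r).1 r.2⟩
      one_smul := fun r => Subtype.ext (show (1 : G) * r * 1⁻¹ = r by group)
      mul_smul := fun a b r => Subtype.ext (show (a : G) * b * r * ((a : G) * b)⁻¹ =
        a * (b * r * (b : G)⁻¹) * (a : G)⁻¹ by group) }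
  have hd' := (IsPGroup.of_card (p := 7) (n := 1) (G := ↥(zpowers u))
    (by rw [Nat.card_zpowers, hu, pow_one])).card_modEq_card_fixedPoints (α := ↥R)
  have hone : ∀ g : ↥(zpowers u), g • (1 : ↥R) = 1 := fun g => Subtype.ext
    (show (g : G) * 1 * (g : G)⁻¹ = 1 by group)
  have : Subsingleton (MulAction.fixedPoints ↥(zpowers u) ↥R) := by
    have key : ∀ r : MulAction.fixedPoints ↥(zpowers u) ↥R, r.1 = 1 := by
      rintro ⟨r, hr⟩
      by_contra hne
      have hc : Commute u (r : G) := mul_inv_eq_iff_eq_mul.1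
        (congrArg Subtype.val (hr ⟨u, mem_zpowers u⟩) : u * r * u⁻¹ = r)
      have hr1 : (r : G) ≠ 1 := fun e => hne (Subtype.ext e)
      have hp : ∀ q : ℕ, (q = 2 ∨ q = 3) → q ∣ orderOf (r : G) → False := fun q hq hq' =>
        h.not_commute_seven hq hu (x := (r : G) ^ (orderOf (r : G) / q))
          (orderOf_pow_orderOf_div (orderOf_pos _).ne' hq') (hc.pow_right _)
      rcases hd _ r.2 hr1 with e | e
      · exact hp 2 (Or.inl rfl) e
      · exact hp 3 (Or.inr rfl) e
    exact ⟨fun a b => Subtype.ext ((key a).trans (key b).symm)⟩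
  rw [Nat.card_of_subsingleton (⟨1, hone⟩ : MulAction.fixedPoints ↥(zpowers u) ↥R)] at hd'
  exact hd'

variable (hN : Nat.card G = 12096) (h : Sparse G)
include hN h

theorem two_group_of_not_seven (R : Subgroup G) [R.Normal] (h7 : ¬ 7 ∣ Nat.card R) :
    ∀ x ∈ R, x ≠ 1 → 2 ∣ orderOf x := by
  classical
  have h3 : ¬ 3 ∣ Nat.card R := by
    intro h3
    obtain ⟨T⟩ := (inferInstance : Nonempty (Sylow 3 ↥R))
    set T' := (T : Subgroup R).map R.subtype with hT'
    have hTc : Nat.card T' = Nat.card ↥(T : Subgroup R) := Subgroup.card_map_of_injective R.subtype_injective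
    have htop : normalizer (T' : Set G) ⊔ R = ⊤ := Sylow.normalizer_sup_eq_top T
    have hrel : R.relIndex (normalizer (T' : Set G)) = R.index := by
      rw [← Subgroup.relIndex_sup_right, htop, Subgroup.relIndex_top_right]
    have hind : 7 ∣ R.index := by
      have := R.card_mul_index
      rw [hN] at this
      exact ((Nat.Prime.dvd_mul (by norm_num : Nat.Prime 7)).1 (this ▸ (by norm_num : 7 ∣ 12096))).resolve_left h7
    obtain ⟨⟨u, huN⟩, hu⟩ := exists_prime_orderOf_dvd_card' (G := ↥(normalizer (T' : Set G))) 7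
      (hind.trans (hrel ▸ Subgroup.index_dvd_card _))
    rw [Subgroup.orderOf_mk] at hu
    have hm := fixed_point_seven h hu T' huN (fun x hx hx1 => Or.inr (by
      obtain ⟨y, hy, rfl⟩ := hx
      obtain ⟨i, hi⟩ := IsPGroup.iff_orderOf.1 T.2 ⟨y, hy⟩
      rw [Subgroup.orderOf_mk] at hi
      rw [Subgroup.coe_subtype, Subgroup.orderOf_coe, hi]
      rcases i with _ | i
      · exact absurd (orderOf_eq_one_iff.1 (hi.trans (pow_zero 3))) fun e => hx1 (by rw [e]; rfl)
      · exact dvd_pow_self 3 (by omega)))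
    have hd : Nat.card T' ∣ 27 := by
      obtain ⟨i, hi⟩ := IsPGroup.iff_card.1 T.2
      have hdd : Nat.card T' ∣ 12096 := hN ▸ Subgroup.card_subgroup_dvd_card T'
      rw [hTc, hi] at hdd ⊢
      exact (Nat.Coprime.pow_left i (show Nat.Coprime 3 448 by norm_num)).dvd_of_dvd_mul_right
        (show 3 ^ i ∣ 27 * 448 from hdd)
    have h3T : 3 ∣ Nat.card T' := hTc ▸ T.dvd_card_of_dvd_card h3
    obtain ⟨i, hi, hi'⟩ := (Nat.dvd_prime_pow Nat.prime_three (m := 3)).1 hd
    rw [hi'] at hm h3T
    interval_cases i <;> first | omega | (norm_num at h3T) | (norm_num at hm)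
  intro x hx hx1
  have hd := Subgroup.orderOf_coe (⟨x, hx⟩ : R) ▸ orderOf_dvd_natCard (⟨x, hx⟩ : R)
  obtain ⟨q, hq, hqd⟩ := Nat.exists_prime_and_dvd (mt orderOf_eq_one_iff.1 hx1)
  have hqR : q ∣ Nat.card R := hqd.trans hd
  have hqN : q ∣ 2 ^ 6 * 3 ^ 3 * 7 := (show 2 ^ 6 * 3 ^ 3 * 7 = 12096 by norm_num) ▸ hN ▸
    hqR.trans R.card_subgroup_dvd_card
  rcases hq.dvd_mul.1 hqN with h' | h'
  · rcases hq.dvd_mul.1 h' with h'' | h''
    · rwa [(Nat.prime_dvd_prime_iff_eq hq Nat.prime_two).1 (hq.dvd_of_dvd_pow h'')] at hqd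
    · exact absurd ((Nat.prime_dvd_prime_iff_eq hq Nat.prime_three).1 (hq.dvd_of_dvd_pow h'') ▸ hqR) h3
  · exact absurd ((Nat.prime_dvd_prime_iff_eq hq (by norm_num)).1 h' ▸ hqR) h7

theorem seven_dvd_normal (R : Subgroup G) [R.Normal] (hne : R ≠ ⊥) : 7 ∣ Nat.card R := by
  classical
  by_contra h7
  have h2 := two_group_of_not_seven hN h R h7
  obtain ⟨u, hu⟩ := exists_prime_orderOf_dvd_card' (G := G) 7 (by rw [hN]; norm_num)
  have hm := fixed_point_seven h hu R (by rw [Subgroup.normalizer_eq_top_iff.2 inferInstance]; trivial)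
    (fun x hx hx1 => Or.inl (h2 x hx hx1))
  have h3 : ¬ 3 ∣ Nat.card R := by
    intro h3
    obtain ⟨x, hx⟩ := exists_prime_orderOf_dvd_card' (G := R) 3 h3
    have := h2 x x.2 fun e => by rw [show x = 1 from Subtype.ext e, orderOf_one] at hx; norm_num at hx
    rw [Subgroup.orderOf_coe, hx] at this
    norm_num at this
  have hd : Nat.card R ∣ 64 := by
    have := hN ▸ R.card_subgroup_dvd_card
    exact ((Nat.Prime.coprime_iff_not_dvd Nat.prime_three).2 h3).symm.pow_right 3 |>.mul_right
      ((Nat.Prime.coprime_iff_not_dvd (by norm_num : Nat.Prime 7)).2 h7).symm |>.dvd_of_dvd_mul_left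
      (show Nat.card R ∣ 3 ^ 3 * 7 * 64 from this)
  have h1 : Nat.card R ≠ 1 := fun e => hne (Subgroup.card_eq_one.1 e)
  obtain ⟨i, hi, hi'⟩ := (Nat.dvd_prime_pow Nat.prime_two (m := 6)).1 hd
  rw [hi'] at hm h1
  have hcases : Nat.card R = 8 ∨ Nat.card R = 64 := by
    interval_cases i <;> first | omega | (norm_num at hm h1)
  rcases hcases with e | e
  · -- order eight
    let C := centralizer (R : Set G)
    have hC7 : ¬ 7 ∣ Nat.card C := by
      intro hd7
      obtain ⟨⟨v, hv⟩, hvo⟩ := exists_prime_orderOf_dvd_card' 7 hd7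
      rw [Subgroup.orderOf_mk] at hvo
      obtain ⟨⟨x, hx⟩, hxo⟩ := exists_prime_orderOf_dvd_card' (G := R) 2 (by rw [e]; norm_num)
      rw [Subgroup.orderOf_mk] at hxo
      exact h.not_commute_seven (Or.inl rfl) hvo hxo (Subgroup.mem_centralizer_iff.1 hv x hx).symm
    obtain ⟨T⟩ := (inferInstance : Nonempty (Sylow 3 G))
    have hT : Nat.card ↥(T : Subgroup G) = 27 := by
      simpa using card_sylow_eq (e := 3) (m := 448) (by rw [hN]; norm_num) (by norm_num) T
    let X := {x : R // x ≠ 1}
    let f : ↥(T : Subgroup G) →* Equiv.Perm X :=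
      { toFun := fun g => ((MulAut.conjNormal (g : G) : MulAut R)).toEquiv.subtypeEquiv fun x => by
          simp [map_eq_one_iff]
        map_one' := Equiv.ext fun x => Subtype.ext (by simp)
        map_mul' := fun a b => Equiv.ext fun x => Subtype.ext (by simp) }
    have hX : Nat.card X = 7 := by
      have := Fintype.ofFinite R
      rw [Nat.card_eq_fintype_card, Fintype.card_subtype_compl, Fintype.card_subtype_eq,
        ← Nat.card_eq_fintype_card, e]
    have hker : f.ker ≠ ⊥ := by
      intro hb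
      have hd' := (Nat.card_congr (MonoidHom.ofInjective ((MonoidHom.ker_eq_bot_iff f).1 hb)).toEquiv) ▸
        f.range.card_subgroup_dvd_card
      rw [hT, Nat.card_perm, hX] at hd'
      norm_num [Nat.factorial] at hd'
    obtain ⟨g, hg, hg1⟩ := (Subgroup.bot_or_exists_ne_one f.ker).resolve_left hker
    have hgC : (g : G) ∈ C := by
      rw [Subgroup.mem_centralizer_iff]
      intro x hx
      rcases eq_or_ne x 1 with rfl | hx1
      · simp
      · have := congrArg (fun p : X => ((p : R) : G))
          (Equiv.Perm.congr_fun (MonoidHom.mem_ker.1 hg) ⟨⟨x, hx⟩, fun e' => hx1 (congrArg Subtype.val e')⟩)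
        have he : (g : G) * x * (g : G)⁻¹ = x := this
        exact (mul_inv_eq_iff_eq_mul.1 he).symm
    obtain ⟨j, hj⟩ := IsPGroup.iff_orderOf.1 T.2 g
    have h2g := two_group_of_not_seven hN h C hC7 g hgC fun e' => hg1 (Subtype.ext e')
    rw [Subgroup.orderOf_coe, hj] at h2g
    exact absurd (Nat.prime_two.dvd_of_dvd_pow h2g) (by norm_num)
  · -- order sixty-four
    obtain ⟨U⟩ := (inferInstance : Nonempty (Sylow 7 G))
    let q := QuotientGroup.mk' R
    let V := U.mapSurjective (QuotientGroup.mk'_surjective R)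
    have hq : Nat.card (G ⧸ R) = 189 := by
      have := R.card_eq_card_quotient_mul_card_subgroup
      rw [hN, e] at this; omega
    have hV : (V : Subgroup (G ⧸ R)).Normal := by
      have hd := V.card_dvd_index
      have hVc : Nat.card ↥(V : Subgroup (G ⧸ R)) = 7 := by
        simpa using card_sylow_eq (e := 1) (m := 27) (by rw [hq]; norm_num) (by norm_num) V
      have hi := (V : Subgroup (G ⧸ R)).card_mul_index
      rw [hVc, hq] at hi
      rw [show (V : Subgroup (G ⧸ R)).index = 27 by omega] at hd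
      have hm7 : Nat.card (Sylow 7 (G ⧸ R)) % 7 = 1 := card_sylow_modEq_one 7 (G ⧸ R)
      have hle := Nat.le_of_dvd (by norm_num) hd
      have h1' : Nat.card (Sylow 7 (G ⧸ R)) = 1 := by
        obtain ⟨j, hj, hj'⟩ := (Nat.dvd_prime_pow Nat.prime_three (m := 3)).1 hd
        rw [hj'] at hm7 ⊢
        interval_cases j <;> first | rfl | (norm_num at hm7)
      have : Subsingleton (Sylow 7 (G ⧸ R)) := (Nat.card_eq_one_iff_unique.1 h1').1
      exact V.normal_of_subsingleton
    let L := (V : Subgroup (G ⧸ R)).comap q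
    have hUL : (U : Subgroup G) ≤ L := fun g hg => Subgroup.mem_comap.2 ⟨g, hg, rfl⟩
    have htop : normalizer ((U : Subgroup G) : Set G) ⊔ L = ⊤ := U.normalizer_sup_eq_top' hUL
    have hrel : L.relIndex (normalizer ((U : Subgroup G) : Set G)) = L.index := by
      rw [← Subgroup.relIndex_sup_right, htop, Subgroup.relIndex_top_right]
    have hLi : L.index = 27 := by
      rw [Subgroup.index_comap_of_surjective _ (QuotientGroup.mk'_surjective R)]
      have hi := (V : Subgroup (G ⧸ R)).card_mul_index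
      rw [show Nat.card ↥(V : Subgroup (G ⧸ R)) = 7 by
        simpa using card_sylow_eq (e := 1) (m := 27) (by rw [hq]; norm_num) (by norm_num) V, hq] at hi
      omega
    have hidx : L.relIndex (normalizer ((U : Subgroup G) : Set G)) ∣
        Nat.card ↥(normalizer ((U : Subgroup G) : Set G)) := Subgroup.index_dvd_card _
    rw [hrel, hLi] at hidx
    have : 27 ∣ 42 := hidx.trans
      (h.card_normalizer_seven_dvd (a := 6) (b := 3) (by rw [hN]; norm_num) U)
    norm_num at this

theorem exists_simple : ∃ K : Subgroup G, K.Normal ∧ IsSimpleGroup K ∧ Nat.card K = 6048 := by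
  classical
  have hne : {R : Subgroup G | R.Normal ∧ R ≠ ⊥}.Nonempty := ⟨⊤, inferInstance, fun e => by
    have := congrArg (fun S : Subgroup G => Nat.card S) e
    simp only [Subgroup.card_top, Subgroup.card_bot, hN] at this
    norm_num at this⟩
  obtain ⟨K, ⟨hKn, hK0⟩, hmin⟩ := Set.Finite.exists_minimal (Set.toFinite _) hne
  have hK7 := seven_dvd_normal hN h K hK0
  have hfac : ∀ P : Sylow 7 G, (P : Subgroup G) ≤ K := fun P => by
    obtain ⟨Q⟩ := (inferInstance : Nonempty (Sylow 7 ↥K))
    have hQ : Nat.card ↥((Q : Subgroup K).map K.subtype) = 7 := by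
      rw [Subgroup.card_map_of_injective K.subtype_injective]
      obtain ⟨i, hi⟩ := IsPGroup.iff_card.1 Q.2
      have hd := hN ▸ (Subgroup.card_subgroup_dvd_card (Q : Subgroup K)).trans K.card_subgroup_dvd_card
      have h0 := Q.dvd_card_of_dvd_card hK7
      rw [hi] at hd h0 ⊢
      rcases i with _ | _ | i
      · norm_num at h0
      · norm_num
      · exact absurd ((pow_dvd_pow 7 (show 2 ≤ i + 2 by omega)).trans hd) (by norm_num)
    obtain ⟨P0, hP0⟩ := (IsPGroup.of_card (p := 7) (n := 1) (by rw [hQ, pow_one])).exists_le_sylow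
    have hP0K : (P0 : Subgroup G) ≤ K := by
      rw [← Subgroup.eq_of_le_of_card_ge hP0 (by
        rw [hQ, (h.card_centralizer_seven (a := 6) (b := 3) (by rw [hN]; norm_num) P0).1])]
      exact Subgroup.map_subtype_le _
    obtain ⟨g, rfl⟩ := MulAction.exists_smul_eq G P0 P
    intro x hx
    rw [Sylow.coe_subgroup_smul, Subgroup.mem_smul_pointwise_iff_exists] at hx
    obtain ⟨y, hy, rfl⟩ := hx
    exact hKn.conj_mem y (hP0K hy) g
  -- simplicity
  have hsimple : IsSimpleGroup K := by
    have : Nontrivial K := (Subgroup.nontrivial_iff_ne_bot K).2 hK0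
    refine ⟨fun L hL => ?_⟩
    by_cases hL7 : 7 ∣ Nat.card L
    · right
      obtain ⟨w, hw⟩ := exists_prime_orderOf_dvd_card' (G := L) 7 hL7
      let M := Subgroup.closure {x : G | orderOf x = 7}
      have : M.Normal := by
        refine ⟨fun x hx g => ?_⟩
        have := Subgroup.map_le_iff_le_comap.1 (show M.map (MulAut.conj g).toMonoidHom ≤ M by
          rw [MonoidHom.map_closure]
          refine Subgroup.closure_mono ?_
          rintro _ ⟨y, hy, rfl⟩
          exact ((MulAut.conj g).orderOf_eq y).trans hy) hx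
        simpa using this
      have hsub : M ≤ L.map K.subtype := by
        refine (Subgroup.closure_le _).2 fun x hx => ?_
        have hxK : x ∈ K := by
          obtain ⟨P, hP⟩ := (IsPGroup.of_card (p := 7) (n := 1) (G := ↥(zpowers x))
            (by rw [Nat.card_zpowers, show orderOf x = 7 from hx, pow_one])).exists_le_sylow
          exact hfac P (hP (mem_zpowers x))
        refine ⟨⟨x, hxK⟩, ?_, rfl⟩
        -- both generate Sylow subgroups of K, conjugate in K
        have ho : ∀ v : K, orderOf v = 7 → IsPGroup 7 (zpowers v) := fun v hv =>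
          IsPGroup.of_card (n := 1) (by rw [Nat.card_zpowers, hv, pow_one])
        obtain ⟨A, hA⟩ := (ho w.1 (by rw [Subgroup.orderOf_coe, hw])).exists_le_sylow
        obtain ⟨B, hB⟩ := (ho ⟨x, hxK⟩ (by rw [Subgroup.orderOf_mk]; exact hx)).exists_le_sylow
        have hcard : ∀ S : Sylow 7 K, Nat.card ↥(S : Subgroup K) ∣ 7 := fun S => by
          obtain ⟨i, hi⟩ := IsPGroup.iff_card.1 S.2
          have hd := hN ▸ (Subgroup.card_subgroup_dvd_card (S : Subgroup K)).trans K.card_subgroup_dvd_card
          rw [hi] at hd ⊢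
          rcases i with _ | _ | i
          · norm_num
          · norm_num
          · exact absurd ((pow_dvd_pow 7 (show 2 ≤ i + 2 by omega)).trans hd) (by norm_num)
        have hAw : (A : Subgroup K) ≤ L := by
          rw [← Subgroup.eq_of_le_of_card_ge hA (by
            rw [Nat.card_zpowers, Subgroup.orderOf_coe, hw]; exact Nat.le_of_dvd (by norm_num) (hcard A))]
          exact zpowers_le.2 w.2
        obtain ⟨g, hg⟩ := MulAction.exists_smul_eq K A B
        have hxB : (⟨x, hxK⟩ : K) ∈ ((g • A : Sylow 7 K) : Subgroup K) := hg ▸ hB (mem_zpowers _)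
        rw [Sylow.coe_subgroup_smul, Subgroup.mem_smul_pointwise_iff_exists] at hxB
        obtain ⟨y, hy, hyx⟩ := hxB
        rw [← hyx]
        exact hL.conj_mem y (hAw hy) g
      have hM0 : M ≠ ⊥ := fun e => by
        have hm : ((w : K) : G) ∈ M := Subgroup.subset_closure (by
          show orderOf ((w : K) : G) = 7
          rw [Subgroup.orderOf_coe, Subgroup.orderOf_coe, hw])
        rw [e, Subgroup.mem_bot] at hm
        have : w = 1 := Subtype.ext (Subtype.ext hm)
        rw [this, orderOf_one] at hw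
        norm_num at hw
      have hKM : K ≤ M := hmin ⟨inferInstance, hM0⟩ (hsub.trans (Subgroup.map_subtype_le L))
      exact eq_top_iff.2 fun k _ => by
        obtain ⟨l, hl, e⟩ := hsub (hKM k.2)
        exact (Subtype.ext e : l = k) ▸ hl
    · left
      let S : Set (Subgroup G) := {A | A ≤ K ∧ K ≤ normalizer (A : Set G) ∧ ¬ 7 ∣ Nat.card A}
      obtain ⟨A, hA, hmax⟩ := Set.Finite.exists_maximal (Set.toFinite S)
        ⟨⊥, bot_le, fun k _ => Subgroup.mem_normalizer_iff.2 fun x => by simp, by simp⟩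
      have hjoin : ∀ B ∈ S, B ≤ A := fun B hB => by
        refine le_sup_right.trans (hmax (show A ⊔ B ∈ S from ⟨sup_le hA.1 hB.1, ?_, ?_⟩) le_sup_left)
        · refine fun k hk => Subgroup.mem_normalizer_iff_map_conj_eq.2 ?_
          rw [Subgroup.map_sup, Subgroup.mem_normalizer_iff_map_conj_eq.1 (hA.2.1 hk),
            Subgroup.mem_normalizer_iff_map_conj_eq.1 (hB.2.1 hk)]
        · intro h7
          have h1 : Nat.card A * A.relIndex (A ⊔ B) = Nat.card ↥(A ⊔ B) := by
            rw [← Nat.card_congr (Subgroup.subgroupOfEquivOfLe (le_sup_left : A ≤ A ⊔ B)).toEquiv]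
            exact Subgroup.card_mul_index _
          have h2 : A.relIndex (A ⊔ B) ∣ Nat.card B := by
            rw [relIndex_sup_of_le_normalizer A B (hB.1.trans hA.2.1)]
            exact Subgroup.index_dvd_card _
          rw [← h1] at h7
          rcases (by norm_num : Nat.Prime 7).dvd_mul.1 h7 with h' | h'
          · exact hA.2.2 h'
          · exact hB.2.2 (h'.trans h2)
      have hL' : L.map K.subtype ∈ S := ⟨Subgroup.map_subtype_le L, fun k hk => by
          refine Subgroup.mem_normalizer_iff.2 fun x => ⟨?_, ?_⟩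
          · rintro ⟨l, hl, rfl⟩
            exact ⟨⟨k, hk⟩ * l * ⟨k, hk⟩⁻¹, hL.conj_mem l hl _, rfl⟩
          · rintro ⟨l, hl, e⟩
            exact ⟨⟨k, hk⟩⁻¹ * l * ⟨k, hk⟩, by simpa using hL.conj_mem l hl ⟨k, hk⟩⁻¹,
              show k⁻¹ * (l : G) * k = x by rw [show (l : G) = k * x * k⁻¹ from e]; group⟩,
        by rwa [Subgroup.card_map_of_injective K.subtype_injective]⟩
      have hAn : A.Normal := ⟨fun a ha g => by
        have hB : A.map (MulAut.conj g).toMonoidHom ∈ S := by
          refine ⟨?_, fun k hk => ?_, ?_⟩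
          · rintro _ ⟨y, hy, rfl⟩; exact hKn.conj_mem y (hA.1 hy) g
          · have hk' : g⁻¹ * k * g ∈ normalizer (A : Set G) := hA.2.1 (by simpa using hKn.conj_mem k hk g⁻¹)
            refine Subgroup.mem_normalizer_iff_map_conj_eq.2 ?_
            rw [Subgroup.map_map]
            conv_rhs => rw [← Subgroup.mem_normalizer_iff_map_conj_eq.1 hk', Subgroup.map_map]
            congr 1
            ext v
            simp [MulAut.conj_apply, mul_assoc]
          · rw [Subgroup.card_map_of_injective (MulAut.conj g).injective]; exact hA.2.2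
        exact hjoin _ hB ⟨a, ha, rfl⟩⟩
      by_contra hLne
      have hA0 : A ≠ ⊥ := fun e => hLne (by
        have := (hjoin _ hL').trans e.le
        rw [le_bot_iff, Subgroup.map_eq_bot_iff_of_injective _ K.subtype_injective] at this
        exact this)
      exact hA.2.2 (seven_dvd_normal hN h A hA0)
  refine ⟨K, hKn, hsimple, ?_⟩
  -- the order
  obtain ⟨P⟩ := (inferInstance : Nonempty (Sylow 7 ↥K))
  have hnK : Nat.card (Sylow 7 K) = 288 := by
    obtain ⟨U⟩ := (inferInstance : Nonempty (Sylow 7 G))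
    have hm : Nat.card (Sylow 7 G) % 7 = 1 := card_sylow_modEq_one 7 G
    have hd := h.card_normalizer_seven_dvd (a := 6) (b := 3) (by rw [hN]; norm_num) U
    have hmul := card_normalizer_mul U
    rw [hN] at hmul
    have h0 : 0 < Nat.card ↥(normalizer ((U : Subgroup G) : Set G)) := Nat.card_pos
    have hle := Nat.le_of_dvd (by norm_num) hd
    have e : Nat.card (Sylow 7 G) = 288 := by
      generalize Nat.card (Sylow 7 G) = n at hm hmul ⊢
      generalize Nat.card ↥(normalizer ((U : Subgroup G) : Set G)) = k at hd hmul h0 hle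
      interval_cases k <;> omega
    rw [← e]
    exact card_sylow_seven_of_le K hfac
  have hhK := h.subgroup K
  obtain ⟨j, hj⟩ : ∃ j, Nat.card K = 7 * j := hK7
  have hKd : Nat.card K ∣ 12096 := hN ▸ K.card_subgroup_dvd_card
  have hP : Nat.card ↥(P : Subgroup K) = 7 := by
    simpa using card_sylow_eq (e := 1) (m := j) (by rw [hj, pow_one]) (fun hd => by
      obtain ⟨l, rfl⟩ := hd
      have : 49 ∣ 12096 := Dvd.dvd.trans ⟨l, by rw [hj]; ring⟩ hKd
      norm_num at this) P
  have hG : ¬ IsMulCommutative K := by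
    intro hcm
    have := Finite.card_le_one_iff_subsingleton.2 (show Subsingleton (Sylow 7 K) from ⟨fun A B => by
      obtain ⟨g, rfl⟩ := MulAction.exists_smul_eq K A B
      have : (A : Subgroup K).Normal :=
        ⟨fun n hn k => by rwa [hcm.is_comm.comm k n, mul_inv_cancel_right]⟩
      exact (Sylow.smul_eq_of_normal (h := this)).symm⟩)
    omega
  obtain ⟨c, e, hC, hNP, he, -, -, hsol⟩ := exists_refined hG P hP
  have hmul := card_normalizer_mul P
  rw [hnK, hNP] at hmul
  obtain rfl : c = 1 := by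
    by_contra hc1
    obtain ⟨r, hr, hrd⟩ := Nat.exists_prime_and_dvd hc1
    have : Fact r.Prime := ⟨hr⟩
    obtain ⟨S⟩ := exists_csplit P hP
    obtain ⟨⟨x, hx⟩, hxo⟩ := exists_prime_orderOf_dvd_card' (G := S.V) r (by
      have := S.card_centralizer
      rw [hC] at this
      rwa [← Nat.eq_of_mul_eq_mul_left (by norm_num) this])
    rw [Subgroup.orderOf_mk] at hxo
    have hrK : r ∣ 2 ^ 6 * 3 ^ 3 * 7 :=
      (show 2 ^ 6 * 3 ^ 3 * 7 = 12096 by norm_num) ▸ (hxo ▸ orderOf_dvd_natCard x).trans hKd
    have hr7 : r ≠ 7 := fun e7 => S.hcop ((dvd_of_eq (hxo.trans e7).symm).trans (Subgroup.orderOf_dvd_natCard S.V hx))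
    refine hhK.not_commute_seven ?_ S.hz hxo (S.hcomm x hx)
    rcases hr.dvd_mul.1 hrK with h' | h'
    · rcases hr.dvd_mul.1 h' with h'' | h''
      · exact Or.inl ((Nat.prime_dvd_prime_iff_eq hr Nat.prime_two).1 (hr.dvd_of_dvd_pow h''))
      · exact Or.inr ((Nat.prime_dvd_prime_iff_eq hr Nat.prime_three).1 (hr.dvd_of_dvd_pow h''))
    · exact absurd ((Nat.prime_dvd_prime_iff_eq hr (by norm_num)).1 h') hr7
  have he' : e = 2 ∨ e = 3 ∨ e = 6 := by
    have : 2016 * e ∣ 2016 * 6 := by rw [show 2016 * e = Nat.card K by rw [← hmul]; ring]; exact hKd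
    have he6 := Nat.dvd_of_mul_dvd_mul_left (by norm_num : 0 < 2016) this
    have := Nat.le_of_dvd (by norm_num) he6
    interval_cases e <;> first | omega | (norm_num at he6)
  rcases he' with rfl | rfl | rfl
  · exact absurd (show Nat.card K = 4032 by omega) (card_ne_of_orderExcluded hG excluded_4032)
  · omega
  · have h6 := hsol 109
    rw [hnK, show Nat.card K = 12096 by omega] at h6
    rw [show (7 - 1) / 6 = 1 by norm_num, excluded_12096] at h6
    exact absurd h6 (by simp)

theorem nonempty_equiv_aut {F : Type} [Field F] [Fintype F] (hF : Fintype.card F = 9) :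
    Nonempty (G ≃* MulAut (Cfsg.PSU 3 F 3)) := by
  classical
  obtain ⟨K, hKn, hKs, hKc⟩ := exists_simple hN h
  have := simple_psu_three_three hF
  obtain ⟨e⟩ := nonempty_mulEquiv hKc (h.subgroup K) (card_psu_three_three hF) (sparse_psu hF)
  let φ : G →* MulAut (Cfsg.PSU 3 F 3) := (MulAut.congr e).toMonoidHom.comp MulAut.conjNormal
  have hker : φ.ker = ⊥ := by
    have hcl : φ.ker ≤ centralizer (K : Set G) := fun g hg => by
      rw [Subgroup.mem_centralizer_iff]
      intro x hx
      have h1 : (MulAut.conjNormal g : MulAut K) = 1 := by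
        apply (MulAut.congr e).injective
        rw [map_one]
        exact hg
      have h2 := congrArg Subtype.val (DFunLike.congr_fun h1 ⟨x, hx⟩)
      rw [MulAut.conjNormal_apply] at h2
      exact (mul_inv_eq_iff_eq_mul.1 h2).symm
    have hC1 : centralizer (K : Set G) ⊓ K = ⊥ := by
      have hz : Subgroup.center K = ⊥ := by
        refine ((inferInstance : (Subgroup.center K).Normal).eq_bot_or_eq_top).resolve_right fun e' => ?_
        have hab : ¬ IsMulCommutative K := not_comm_of_not_prime (by rw [hKc]; norm_num)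
        exact hab ⟨⟨fun a b => (Subgroup.mem_center_iff.1 (e' ▸ Subgroup.mem_top b) a)⟩⟩
      refine (Subgroup.eq_bot_iff_forall _).2 fun x hx => ?_
      have : (⟨x, hx.2⟩ : K) ∈ Subgroup.center K := Subgroup.mem_center_iff.2 fun y =>
        Subtype.ext (Subgroup.mem_centralizer_iff.1 hx.1 y y.2)
      rw [hz, Subgroup.mem_bot] at this
      exact congrArg Subtype.val this
    refine (Subgroup.eq_bot_iff_forall _).2 fun x hx => by_contra fun hx1 => ?_
    have hxC := hcl hx
    have hx2 : x * x = 1 := by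
      have hK2 : x * x ∈ K := by
        have hi : K.index = 2 := by
          have := K.card_mul_index; rw [hKc, hN] at this; omega
        exact Subgroup.mul_self_mem_of_index_two hi x
      exact Subgroup.mem_bot.1 (hC1 ▸ ⟨mul_mem hxC hxC, hK2⟩)
    obtain ⟨v, hv⟩ := exists_prime_orderOf_dvd_card' (G := K) 7 (by rw [hKc]; norm_num)
    have : Fact (Nat.Prime 2) := ⟨Nat.prime_two⟩
    exact h.not_commute_seven (Or.inl rfl) (u := (v : G)) (by rw [Subgroup.orderOf_coe, hv])
      (orderOf_eq_prime (by rw [pow_two]; exact hx2) hx1) (Subgroup.mem_centralizer_iff.1 hxC v v.2)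
  have : Fact (Nat.Prime 3) := ⟨Nat.prime_three⟩
  have hinj := (MonoidHom.ker_eq_bot_iff φ).1 hker
  have hcard : Nat.card (MulAut (Cfsg.PSU 3 F 3)) = 12096 := by
    rw [CfsgLib.AutPSU.card_aut 3 1 (by norm_num) (by rw [hF]; norm_num) le_rfl (by norm_num),
      card_psu_three_three hF]
    norm_num
  have : Finite (MulAut (Cfsg.PSU 3 F 3)) := Nat.finite_of_card_ne_zero (by rw [hcard]; norm_num)
  exact ⟨MulEquiv.ofBijective φ ((Nat.bijective_iff_injective_and_card φ).2 ⟨hinj, by rw [hcard, hN]⟩)⟩

end CfsgLib.UThreeRecog
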