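import Cfsg.Agent.Lib.UThreeRecog.Extra

/-!
The Sylow 3-subgroups: twenty-eight, with trivial intersections.
-/

set_option autoImplicit false

namespace CfsgLib.UThreeRecog

open Subgroup CfsgLib.SmallOrder

universe u

variable {G : Type u} [Group G] [Finite G] (W : Weight G)

theorem normalizer_card (hN : Nat.card G = 6048) {n : ℕ} (T : Sylow 3 G) (hn : Nat.card (Sylow 3 G) = n) :
    Nat.card ↥(normalizer ((T : Subgroup G) : Set G)) * n = 6048 := by
  have := card_normalizer_mul T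
  rw [hn, hN] at this
  linarith

variable [IsSimpleGroup G]

include W in
theorem not_abelian (hN : Nat.card G = 6048) (h : Sparse G) (T : Sylow 3 G) :
    ∃ a ∈ (T : Subgroup G), ∃ b ∈ (T : Subgroup G), a * b ≠ b * a := by
  classical
  by_contra hab
  push Not at hab
  have habQ : ∀ Q : Sylow 3 G, ∀ a ∈ (Q : Subgroup G), ∀ b ∈ (Q : Subgroup G), a * b = b * a := by
    intro Q a ha b hb
    let e := T.equiv Q
    have := congrArg e (Subtype.ext (hab _ (e.symm ⟨a, ha⟩).2 _ (e.symm ⟨b, hb⟩).2) :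
      e.symm ⟨a, ha⟩ * e.symm ⟨b, hb⟩ = e.symm ⟨b, hb⟩ * e.symm ⟨a, ha⟩)
    simp only [map_mul, MulEquiv.apply_symm_apply] at this
    exact congrArg Subtype.val this
  have hT := card_sylow_three hN T
  have hcent : ∀ x ∈ (T : Subgroup G), x ≠ 1 → W.u x = 0 → centralizer ({x} : Set G) = (T : Subgroup G) :=
    fun x hx h1 hu => eq_centralizer_of_zero W hN h hx h1 hu fun g hg => hab g hg x hx
  have hk : 9 ∣ Nat.card (Sylow 3 G) - 1 := by
    refine modEq_of_orbits hN T 9 fun Q hQ => ?_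
    have hd : Nat.card ↥((T : Subgroup G) ⊓ (Q : Subgroup G)) ∣ 27 :=
      hT ▸ Subgroup.card_dvd_of_le inf_le_left
    obtain ⟨i, hi, hi'⟩ := (Nat.dvd_prime_pow Nat.prime_three (m := 3)).1 hd
    interval_cases i <;> rw [hi'] <;> try norm_num
    · exfalso
      obtain ⟨x, hx, hx1, hu⟩ := exists_zero W h T _ inf_le_left hi'
      have hQc : (Q : Subgroup G) ≤ (T : Subgroup G) := by
        rw [← hcent x hx.1 hx1 hu]
        exact fun g hg => mem_centralizer_singleton_iff.2 (habQ Q g hg x hx.2)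
      exact hQ (Sylow.ext (Subgroup.eq_of_le_of_card_ge hQc (by rw [hT, card_sylow_three hN Q])))
    · have hle : (T : Subgroup G) ≤ (Q : Subgroup G) :=
        (Subgroup.eq_of_le_of_card_ge (inf_le_left (b := (Q : Subgroup G)))
          (by rw [hi', hT]; norm_num)).ge.trans inf_le_right
      exact hQ (Sylow.ext (Subgroup.eq_of_le_of_card_ge hle (by rw [hT, card_sylow_three hN Q])).symm)
  rcases card_sylow_three_cases hN h with hn | hn
  swap
  · rw [hn] at hk; norm_num at hk
  have hNc := normalizer_card hN T hn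
  let N := normalizer ((T : Subgroup G) : Set G)
  let X := {g : G // g ∈ (T : Subgroup G) ∧ g ≠ 1 ∧ W.u g = 0}
  let act : MulAction ↥N X :=
    { smul := fun n g => ⟨n.1 * g.1 * n.1⁻¹, (Subgroup.mem_normalizer_iff.1 n.2 _).1 g.2.1,
        fun e => g.2.2.1 (conj_eq_one_iff.1 e), by rw [W.conj_eq]; exact g.2.2.2⟩
      one_smul := fun g => Subtype.ext (show (1 : G) * g.1 * 1⁻¹ = g.1 by group)
      mul_smul := fun a b g => Subtype.ext (show a.1 * b.1 * g.1 * (a.1 * b.1)⁻¹ =
        a.1 * (b.1 * g.1 * b.1⁻¹) * a.1⁻¹ by group) }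
  have h8 : 8 ∣ (∅ : Set X)ᶜ.ncard := by
    refine dvd_card_sub_of_orbits (H := ↥N) 8 ∅ (fun x hx => hx.elim) fun x _ => ?_
    have hst : Nat.card (MulAction.stabilizer ↥N x) = 27 := by
      rw [← hT]
      refine Nat.card_congr
        { toFun := fun n => ⟨n.1.1, hcent x.1 x.2.1 x.2.2.1 x.2.2.2 ▸ mem_centralizer_singleton_iff.2
            (mul_inv_eq_iff_eq_mul.1 (congrArg Subtype.val n.2 : n.1.1 * x.1 * n.1.1⁻¹ = x.1))⟩
          invFun := fun g => ⟨⟨g.1, le_normalizer g.2⟩, Subtype.ext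
            (show g.1 * x.1 * g.1⁻¹ = x.1 by rw [hab g.1 g.2 x.1 x.2.1, mul_inv_cancel_right])⟩
          left_inv := fun n => rfl
          right_inv := fun g => rfl }
    rw [← MulAction.index_stabilizer]
    have := (MulAction.stabilizer ↥N x).card_mul_index
    rw [hst] at this
    change _ = Nat.card ↥(normalizer ((T : Subgroup G) : Set G)) at this
    omega
  rw [Set.compl_empty, Set.ncard_univ] at h8
  have : Nat.card X = {g : G | g ∈ (T : Subgroup G) ∧ g ≠ 1 ∧ W.u g = 0}.ncard := Nat.card_coe_set_eq _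
  rcases zero_count_abelian W hN h T hab with e | e <;> rw [this, e] at h8 <;> norm_num at h8

/-- the centre of a Sylow subgroup and the weights -/
structure Centre (T : Sylow 3 G) (z : G) : Prop where
  mem : z ∈ (T : Subgroup G)
  order : orderOf z = 3
  comm : ∀ g ∈ (T : Subgroup G), g * z = z * g
  neg : W.u z = -1
  zero : ∀ y ∈ (T : Subgroup G), y ∉ zpowers z → W.u y = 0
  conj : ∀ y ∈ (T : Subgroup G), y ∉ zpowers z → ∀ w ∈ zpowers z, ∃ t ∈ (T : Subgroup G), t * y * t⁻¹ = y * w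
  commutator : ∀ a ∈ (T : Subgroup G), ∀ b ∈ (T : Subgroup G), a * b * a⁻¹ * b⁻¹ ∈ zpowers z

theorem exists_centre (hN : Nat.card G = 6048) (h : Sparse G) (T : Sylow 3 G) : ∃ z, Centre W T z := by
  classical
  obtain ⟨a, ha, b, hb, hab⟩ := not_abelian W hN h T
  have hT := card_sylow_three hN T
  let P := ↥(T : Subgroup G)
  have hP : Nat.card P = 3 ^ 3 := by simpa [P] using hT
  have hcard : Nat.card (Subgroup.center P) = 3 := by
    obtain ⟨k, hk, hk'⟩ := IsPGroup.card_center_eq_prime_pow hP (by norm_num)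
    have hd : Nat.card (Subgroup.center P) ∣ 3 ^ 3 := hP ▸ Subgroup.card_subgroup_dvd_card _
    rw [hk'] at hd ⊢
    have hk3 : k ≤ 3 := (Nat.pow_dvd_pow_iff_le_right (by norm_num)).1 hd
    interval_cases k
    · rfl
    · exfalso
      have hq : Nat.card (P ⧸ Subgroup.center P) = 3 := by
        have := Subgroup.card_eq_card_quotient_mul_card_subgroup (Subgroup.center P)
        rw [hk', hP] at this; omega
      have : IsCyclic (P ⧸ Subgroup.center P) := isCyclic_of_prime_card hq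
      exact hab (congrArg Subtype.val (commutative_of_cyclic_center_quotient (QuotientGroup.mk' (Subgroup.center P))
        (by rw [QuotientGroup.ker_mk']) ⟨a, ha⟩ ⟨b, hb⟩))
    · exfalso
      have : Subgroup.center P = ⊤ := Subgroup.eq_top_of_card_eq _ (by rw [hk', hP])
      exact hab (congrArg Subtype.val (Subgroup.mem_center_iff.1 (this ▸ Subgroup.mem_top (⟨b, hb⟩ : P)) ⟨a, ha⟩))
  obtain ⟨z, hz, hz1⟩ := (Subgroup.bot_or_exists_ne_one (Subgroup.center P)).resolve_left fun e => by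
    rw [e, Subgroup.card_bot] at hcard; norm_num at hcard
  have hzG : (z : G) ≠ 1 := fun e => hz1 (Subtype.ext e)
  have hzo := h.orderOf_sylow_three T z.2 hzG
  have hzeq : Subgroup.center P = zpowers z := (Subgroup.eq_of_le_of_card_ge (zpowers_le.2 hz)
    (by rw [hcard, Nat.card_zpowers, ← Subgroup.orderOf_coe, hzo])).symm
  have hcomm : ∀ g ∈ (T : Subgroup G), g * (z : G) = z * g := fun g hg =>
    congrArg Subtype.val (Subgroup.mem_center_iff.1 hz ⟨g, hg⟩)
  have hmem : ∀ g : P, g ∈ Subgroup.center P ↔ (g : G) ∈ zpowers (z : G) := by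
    intro g
    rw [hzeq]
    constructor
    · rintro ⟨i, rfl⟩; exact ⟨i, (Subgroup.coe_zpow _ z i).symm⟩
    · rintro ⟨i, hi⟩; exact ⟨i, Subtype.ext ((Subgroup.coe_zpow _ z i).trans hi)⟩
  have hcomq : ∀ c d : P, c * d * c⁻¹ * d⁻¹ ∈ Subgroup.center P := by
    intro c d
    have hq : Nat.card (P ⧸ Subgroup.center P) = 3 ^ 2 := by
      have := Subgroup.card_eq_card_quotient_mul_card_subgroup (Subgroup.center P)
      rw [hcard, hP] at this; omega
    have hm := IsPGroup.isMulCommutative_of_card_eq_prime_sq hq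
    rw [← QuotientGroup.eq_one_iff]
    show (QuotientGroup.mk' (Subgroup.center P)) (c * d * c⁻¹ * d⁻¹) = 1
    rw [map_mul, map_mul, map_mul, map_inv, map_inv, hm.is_comm.comm ((QuotientGroup.mk' _) c),
      mul_inv_cancel_right, mul_inv_cancel]
  have hcommutator : ∀ c ∈ (T : Subgroup G), ∀ d ∈ (T : Subgroup G), c * d * c⁻¹ * d⁻¹ ∈ zpowers (z : G) :=
    fun c hc d hd => (hmem (⟨c, hc⟩ * ⟨d, hd⟩ * ⟨c, hc⟩⁻¹ * ⟨d, hd⟩⁻¹)).1 (hcomq ⟨c, hc⟩ ⟨d, hd⟩)
  have hz3 : (z : G) ^ 3 = 1 := orderOf_dvd_iff_pow_eq_one.1 (dvd_of_eq hzo)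
  have hzp : ∀ w ∈ zpowers (z : G), w = 1 ∨ w = (z : G) ∨ w = (z : G) ^ 2 := by
    intro w hw
    obtain ⟨i, hi⟩ := mem_powers_iff_mem_zpowers.2 hw
    replace hi : (z : G) ^ (i % 3) = w := (pow_eq_pow_mod i hz3).symm.trans hi
    rcases (show i % 3 = 0 ∨ i % 3 = 1 ∨ i % 3 = 2 by omega) with e | e | e <;> rw [e] at hi
    · exact Or.inl (by rw [← hi, pow_zero])
    · exact Or.inr (Or.inl (by rw [← hi, pow_one]))
    · exact Or.inr (Or.inr hi.symm)
  have hconj : ∀ y ∈ (T : Subgroup G), y ∉ zpowers (z : G) → ∀ w ∈ zpowers (z : G),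
      ∃ t ∈ (T : Subgroup G), t * y * t⁻¹ = y * w := by
    intro y hy hyn w hw
    obtain ⟨⟨t, ht⟩, htn⟩ : ∃ t : P, t * ⟨y, hy⟩ ≠ ⟨y, hy⟩ * t := by
      by_contra hcon
      push Not at hcon
      exact hyn ((hmem ⟨y, hy⟩).1 (Subgroup.mem_center_iff.2 hcon))
    have hv : t * y * t⁻¹ * y⁻¹ ≠ 1 := fun e => htn (Subtype.ext
      (mul_inv_eq_iff_eq_mul.1 (mul_inv_eq_one.1 e)))
    have hvz := hcommutator t ht y hy
    obtain ⟨v, hv', hcy⟩ : ∃ v, (v = (z : G) ∨ v = (z : G) ^ 2) ∧ t * y * t⁻¹ = y * v := by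
      refine ⟨t * y * t⁻¹ * y⁻¹, (hzp _ hvz).resolve_left hv, ?_⟩
      obtain ⟨i, hi⟩ := mem_zpowers_iff.1 hvz
      rw [← hi, (Commute.zpow_right (show Commute y z from hcomm y hy) i).eq, hi, inv_mul_cancel_right]
    have hv3 : v ^ 3 = 1 := by
      rcases hv' with rfl | rfl
      · exact hz3
      · rw [← pow_mul, pow_mul', hz3, one_pow]
    have hvc : Commute t v := by
      rcases hv' with rfl | rfl
      · exact hcomm t ht
      · exact (show Commute t z from hcomm t ht).pow_right 2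
    have h2 : t ^ 2 * y * (t ^ 2)⁻¹ = y * v ^ 2 := by
      calc t ^ 2 * y * (t ^ 2)⁻¹ = t * (t * y * t⁻¹) * t⁻¹ := by
            simp only [pow_two, mul_inv_rev, mul_assoc]
        _ = t * y * (v * t⁻¹) := by rw [hcy]; group
        _ = t * y * (t⁻¹ * v) := by rw [(hvc.inv_left).eq]
        _ = (t * y * t⁻¹) * v := by group
        _ = y * v ^ 2 := by rw [hcy, pow_two, mul_assoc]
    rcases hzp w hw with rfl | rfl | rfl
    · exact ⟨1, one_mem _, by simp⟩
    · rcases hv' with rfl | rfl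
      · exact ⟨t, ht, hcy⟩
      · exact ⟨t ^ 2, pow_mem ht 2, by rw [h2, ← pow_mul, show 2 * 2 = 3 + 1 from rfl, pow_succ, hz3, one_mul]⟩
    · rcases hv' with rfl | rfl
      · exact ⟨t ^ 2, pow_mem ht 2, h2⟩
      · exact ⟨t, ht, hcy⟩
  have hweights : ∀ y ∈ (T : Subgroup G), y ∉ zpowers (z : G) → W.u y = 0 ∧ W.u z = -1 := by
    intro y hy hyn
    have hyo := h.orderOf_sylow_three T hy fun e => hyn (e ▸ one_mem _)
    have hc : Commute (z : G) y := (hcomm y hy).symm
    obtain ⟨m0, m1, m2, m3, m4, e0, e1, e2, e3, e4⟩ := plane_all W hzo hyo hc hyn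
    obtain ⟨t, -, h1⟩ := hconj y hy hyn _ (mem_zpowers (z : G))
    obtain ⟨h5, h6⟩ := orderOf_plane hzo hyo hc hyn
    have u1 : W.u ((z : G) * y) = W.u y := by rw [hc.eq, ← h1, W.conj_eq]
    have u2 : W.u ((z : G) * y ^ 2) = W.u y := by
      obtain ⟨t', -, h1'⟩ := hconj y hy hyn _ (inv_mem (mem_zpowers (z : G)))
      rw [← W.inv_eq _ h6, mul_inv_rev]
      have hy2 : (y ^ 2)⁻¹ = y := inv_eq_of_mul_eq_one_right (by
        rw [← pow_succ]; exact orderOf_dvd_iff_pow_eq_one.1 (dvd_of_eq hyo))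
      rw [hy2, ← h1', W.conj_eq]
    rw [u1, u2] at e0 e1 e2
    have r1 := W.range _ hzo
    have r2 := W.range y hyo
    omega
  obtain ⟨y0, hy0, hy0n⟩ : ∃ y ∈ (T : Subgroup G), y ∉ zpowers (z : G) := by
    by_contra hcon
    push Not at hcon
    have := Subgroup.card_le_of_le (show (T : Subgroup G) ≤ zpowers (z : G) from hcon)
    rw [hT, Nat.card_zpowers, hzo] at this
    omega
  exact ⟨z, z.2, hzo, hcomm, (hweights y0 hy0 hy0n).2, fun y hy hyn => (hweights y hy hyn).1, hconj, hcommutator⟩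

variable {W}

theorem Centre.mem_of_neg {T : Sylow 3 G} {z : G} (hz : Centre W T z) {x : G} (hx : x ∈ (T : Subgroup G))
    (hu : W.u x ≠ 0) : x ∈ zpowers z :=
  by_contra fun hn => hu (hz.zero x hx hn)

theorem Centre.le_of_central {T : Sylow 3 G} {z x : G} (hz : Centre W T z) (hx : x ∈ (T : Subgroup G))
    (hc : ∀ g ∈ (T : Subgroup G), g * x = x * g) : x ∈ zpowers z := by
  by_contra hn
  obtain ⟨t, ht, he⟩ := hz.conj x hx hn z (mem_zpowers z)
  rw [hc t ht, mul_inv_cancel_right, left_eq_mul] at he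
  have := hz.order
  rw [he, orderOf_one] at this
  norm_num at this

/-- the centraliser of an element of weight zero lies in the Sylow subgroup -/
theorem Centre.centralizer_le (hN : Nat.card G = 6048) (h : Sparse G) {T : Sylow 3 G} {z : G}
    (hz : Centre W T z) {x : G} (hx : x ∈ (T : Subgroup G)) (hxn : x ∉ zpowers z) :
    centralizer ({x} : Set G) ≤ (T : Subgroup G) := by
  have hxo := h.orderOf_sylow_three T hx fun e => hxn (e ▸ one_mem _)
  have hu := hz.zero x hx hxn
  have hd := centralizer_dvd hN h hxo (d := 1) (Or.inl ⟨rfl, W.zero x hxo hu⟩)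
  obtain ⟨i, hi, hi'⟩ := (Nat.dvd_prime_pow Nat.prime_three (m := 3)).1 (show _ ∣ 27 from hd)
  have hxC : x ∈ centralizer ({x} : Set G) := mem_centralizer_singleton_iff.2 rfl
  have hzC : z ∈ centralizer ({x} : Set G) := mem_centralizer_singleton_iff.2 (hz.comm x hx).symm
  have h4 : 4 ≤ Nat.card ↥(centralizer ({x} : Set G) ⊓ (T : Subgroup G)) := by
    have hlt : zpowers z < centralizer ({x} : Set G) ⊓ (T : Subgroup G) :=
      lt_of_le_of_ne (zpowers_le.2 ⟨hzC, hz.mem⟩) fun e => hxn (e ▸ ⟨hxC, hx⟩)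
    by_contra hcon
    exact hlt.ne (Subgroup.eq_of_le_of_card_ge hlt.le (by rw [Nat.card_zpowers, hz.order]; omega))
  have hle := Subgroup.card_le_of_le (inf_le_left : centralizer ({x} : Set G) ⊓ (T : Subgroup G) ≤ _)
  rw [hi'] at hle
  interval_cases i
  · omega
  · omega
  · have h9 : Nat.card ↥(centralizer ({x} : Set G) ⊓ (T : Subgroup G)) = 9 := by
      have h27 : Nat.card ↥(centralizer ({x} : Set G) ⊓ (T : Subgroup G)) ∣ 27 :=
        card_sylow_three hN T ▸ Subgroup.card_dvd_of_le inf_le_right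
      have h9' : Nat.card ↥(centralizer ({x} : Set G) ⊓ (T : Subgroup G)) ∣ 3 ^ 2 :=
        hi' ▸ Subgroup.card_dvd_of_le inf_le_left
      obtain ⟨j, hj, hj'⟩ := (Nat.dvd_prime_pow Nat.prime_three).1 h9'
      interval_cases j <;> omega
    exact (Subgroup.eq_of_le_of_card_ge inf_le_left (by rw [hi', h9]; norm_num)).ge.trans inf_le_right
  · exfalso
    obtain ⟨R, hR⟩ := (IsPGroup.of_card (p := 3) (n := 3) hi').exists_le_sylow
    obtain ⟨w, hw⟩ := exists_centre W hN h R
    have heq : centralizer ({x} : Set G) = (R : Subgroup G) :=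
      Subgroup.eq_of_le_of_card_ge hR (by rw [hi', card_sylow_three hN R]; norm_num)
    have hxw := hw.le_of_central (hR hxC) fun g hg => mem_centralizer_singleton_iff.1 (heq ▸ hg)
    have : zpowers x = zpowers w := Subgroup.eq_of_le_of_card_ge (zpowers_le.2 hxw)
      (by rw [Nat.card_zpowers, Nat.card_zpowers, hxo, hw.order])
    have hwx : w ∈ zpowers x := this ▸ mem_zpowers w
    obtain ⟨k, hk⟩ := mem_powers_iff_mem_zpowers.2 hwx
    have hx3 : x ^ 3 = 1 := orderOf_dvd_iff_pow_eq_one.1 (dvd_of_eq hxo)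
    replace hk : x ^ (k % 3) = w := (pow_eq_pow_mod k hx3).symm.trans hk
    have hwu := hw.neg
    rcases (show k % 3 = 0 ∨ k % 3 = 1 ∨ k % 3 = 2 by omega) with e | e | e <;> rw [e] at hk <;> subst hk
    · have := hw.order; rw [pow_zero, orderOf_one] at this; norm_num at this
    · rw [pow_one] at hwu; omega
    · rw [show x ^ 2 = x⁻¹ from eq_inv_of_mul_eq_one_left (by rw [← pow_succ]; exact hx3), W.inv_eq x hxo] at hwu
      omega

variable (W)

include W in
theorem inter_eq_bot (hN : Nat.card G = 6048) (h : Sparse G) {T Q : Sylow 3 G} (hne : Q ≠ T) :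
    (T : Subgroup G) ⊓ (Q : Subgroup G) = ⊥ := by
  by_contra hb
  obtain ⟨z, hz⟩ := exists_centre W hN h T
  obtain ⟨w, hw⟩ := exists_centre W hN h Q
  obtain ⟨x, hx, hx1⟩ := (Subgroup.bot_or_exists_ne_one _).resolve_left hb
  have hsame : ∀ y ∈ (T : Subgroup G), W.u y ≠ 0 → y ≠ 1 → z ∈ zpowers y := by
    intro y hy hu hy1
    have hyz := hz.mem_of_neg hy hu
    have : zpowers y = zpowers z := Subgroup.eq_of_le_of_card_ge (zpowers_le.2 hyz)
      (by rw [Nat.card_zpowers, Nat.card_zpowers, h.orderOf_sylow_three T hy hy1, hz.order])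
    exact this ▸ mem_zpowers z
  -- the centre of the first lies in the second
  have hzQ : z ∈ (Q : Subgroup G) := by
    by_cases hu : W.u x = 0
    · have hxw : x ∉ zpowers w := fun hm => by
        obtain ⟨k, hk⟩ := mem_powers_iff_mem_zpowers.2 hm
        have hw3 : w ^ 3 = 1 := orderOf_dvd_iff_pow_eq_one.1 (dvd_of_eq hw.order)
        replace hk : w ^ (k % 3) = x := (pow_eq_pow_mod k hw3).symm.trans hk
        have hwu := hw.neg
        rcases (show k % 3 = 0 ∨ k % 3 = 1 ∨ k % 3 = 2 by omega) with e | e | e <;> rw [e] at hk <;> subst hk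
        · exact hx1 (pow_zero w)
        · rw [pow_one] at hu; omega
        · rw [show w ^ 2 = w⁻¹ from eq_inv_of_mul_eq_one_left (by rw [← pow_succ]; exact hw3),
            W.inv_eq w hw.order] at hu
          omega
      exact hw.centralizer_le hN h hx.2 hxw (mem_centralizer_singleton_iff.2 (hz.comm x hx.1).symm)
    · exact (zpowers_le.2 hx.2) (hsame x hx.1 hu hx1)
  have hzw : z ∈ zpowers w := hw.mem_of_neg hzQ (by rw [hz.neg]; norm_num)
  have hQz : ∀ g ∈ (Q : Subgroup G), g * z = z * g := fun g hg => by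
    obtain ⟨k, rfl⟩ := mem_zpowers_iff.1 hzw
    exact ((show Commute g w from hw.comm g hg).zpow_right k).eq
  have hTQ : ∃ y ∈ (T : Subgroup G), y ∈ (Q : Subgroup G) ∧ y ∉ zpowers z := by
    by_contra hcon
    push Not at hcon
    let C := centralizer ({z} : Set G)
    have hTC : (T : Subgroup G) ≤ C := fun g hg => mem_centralizer_singleton_iff.2 (hz.comm g hg)
    have hQC : (Q : Subgroup G) ≤ C := fun g hg => mem_centralizer_singleton_iff.2 (hQz g hg)
    have hC := Nat.le_of_dvd (by norm_num) (centralizer_dvd hN h hz.order (d := 4) (Or.inr ⟨rfl, W.neg z hz.order hz.neg⟩))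
    have h1 : Nat.card ↥(Q : Subgroup G) * (Q : Subgroup G).relIndex C = Nat.card C := by
      rw [← Nat.card_congr (Subgroup.subgroupOfEquivOfLe hQC).toEquiv]
      exact Subgroup.card_mul_index _
    have h2 : (Q : Subgroup G).relIndex (T : Subgroup G) ≤ (Q : Subgroup G).relIndex C :=
      Subgroup.relIndex_le_of_le_right hTC fun e => by rw [e, mul_zero] at h1; exact Nat.card_pos.ne h1
    have h3 : Nat.card ↥((Q : Subgroup G).subgroupOf (T : Subgroup G)) * (Q : Subgroup G).relIndex (T : Subgroup G) =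
        Nat.card ↥(T : Subgroup G) := Subgroup.card_mul_index _
    have h4 : Nat.card ↥((Q : Subgroup G).subgroupOf (T : Subgroup G)) ≤ 3 := by
      refine (Nat.card_le_card_of_injective
        (fun g : ↥((Q : Subgroup G).subgroupOf (T : Subgroup G)) => (⟨(g : ↥(T : Subgroup G)).1, hcon g.1.1 g.1.2 g.2⟩ : ↥(zpowers z)))
        fun a b e => Subtype.ext (Subtype.ext (congrArg (fun v : ↥(zpowers z) => (v : G)) e :))).trans_eq ?_
      rw [Nat.card_zpowers, hz.order]
    rw [card_sylow_three hN Q] at h1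
    rw [card_sylow_three hN T] at h3
    change Nat.card ↥(centralizer ({z} : Set G)) ≤ _ at hC
    have h5 : (Q : Subgroup G).relIndex C ≤ 4 := by
      change _ = Nat.card ↥(centralizer ({z} : Set G)) at h1
      omega
    have h6 : Nat.card ↥((Q : Subgroup G).subgroupOf (T : Subgroup G)) * (Q : Subgroup G).relIndex (T : Subgroup G) ≤ 3 * 4 :=
      Nat.mul_le_mul h4 (h2.trans h5)
    omega
  obtain ⟨y, hyT, hyQ, hyn⟩ := hTQ
  refine hne (Sylow.ext (Subgroup.eq_of_le_of_card_ge (fun g hg => ?_)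
    (by rw [card_sylow_three hN T, card_sylow_three hN Q])))
  have hv : g * y * g⁻¹ * y⁻¹ ∈ zpowers z := by
    have hle : zpowers w ≤ zpowers z := (Subgroup.eq_of_le_of_card_ge (zpowers_le.2 hzw)
      (by rw [Nat.card_zpowers, Nat.card_zpowers, hz.order, hw.order])).ge
    exact hle (hw.commutator g hg y hyQ)
  obtain ⟨t, ht, he⟩ := hz.conj y hyT hyn _ hv
  have hgy : g * y * g⁻¹ = t * y * t⁻¹ := by
    obtain ⟨i, hi⟩ := mem_zpowers_iff.1 hv
    rw [he, ← hi, (Commute.zpow_right (show Commute y z from hz.comm y hyT) i).eq, hi, inv_mul_cancel_right]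
  have hc : t⁻¹ * g ∈ centralizer ({y} : Set G) := mem_centralizer_singleton_iff.2 (by
    calc t⁻¹ * g * y = t⁻¹ * (g * y * g⁻¹) * g := by group
      _ = y * (t⁻¹ * g) := by rw [hgy]; group)
  simpa using mul_mem ht (hz.centralizer_le hN h hyT hyn hc)

include W in
theorem sylow_three_count (hN : Nat.card G = 6048) (h : Sparse G) :
    Nat.card (Sylow 3 G) = 28 ∧
      ∀ T : Sylow 3 G, Nat.card ↥(normalizer ((T : Subgroup G) : Set G)) = 216 := by
  obtain ⟨T⟩ := (inferInstance : Nonempty (Sylow 3 G))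
  have hk : 27 ∣ Nat.card (Sylow 3 G) - 1 := modEq_of_orbits hN T 27 fun Q hQ => by
    rw [inter_eq_bot W hN h hQ, Subgroup.card_bot]
  have hn : Nat.card (Sylow 3 G) = 28 := by
    rcases card_sylow_three_cases hN h with e | e
    · exact e
    · rw [e] at hk; norm_num at hk
  exact ⟨hn, fun T => by have := normalizer_card hN T hn; omega⟩

end CfsgLib.UThreeRecog
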