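import Cfsg.Agent.Lib.UThreeRecog.Value

/-!
The Sylow 3-subgroups: extraspecial, with trivial intersections, twenty-eight in number.
-/

set_option autoImplicit false

namespace CfsgLib.UThreeRecog

open Subgroup CfsgLib.SmallOrder

universe u

instance factThree : Fact (Nat.Prime 3) := ⟨Nat.prime_three⟩

variable {G : Type u} [Group G] [Finite G]

theorem mem_of_normalizes {g : G} {R : Sylow 3 G} (Q : Sylow 3 G) (hg : g ∈ (R : Subgroup G))
    (hn : g ∈ normalizer ((Q : Subgroup G) : Set G)) : g ∈ (Q : Subgroup G) := by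
  have hz : IsPGroup 3 (Subgroup.zpowers g) := R.2.to_le (Subgroup.zpowers_le.mpr hg)
  have hsup := hz.to_sup_of_normal_right' Q.2 (Subgroup.zpowers_le.mpr hn)
  exact Q.3 hsup le_sup_right ▸ le_sup_left (b := (Q : Subgroup G)) (Subgroup.mem_zpowers g)

/-- a divisor of all non-trivial orbit lengths -/
theorem dvd_card_sub_of_orbits {H X : Type*} [Group H] [MulAction H X] [Finite X] (k : ℕ) (S : Set X)
    (hfix : ∀ x ∈ S, ∀ g : H, g • x = x) (h : ∀ x ∉ S, k ∣ (MulAction.orbit H x).ncard) :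
    k ∣ Sᶜ.ncard := by
  classical
  induction hn : Sᶜ.ncard using Nat.strong_induction_on generalizing S with
  | _ n ih =>
    rcases Nat.eq_zero_or_pos n with h0 | h0
    · simp [h0]
    obtain ⟨x, hx⟩ := (Set.ncard_pos).1 (hn ▸ h0)
    have key : ∀ (m : ℕ) (T : Set X), Tᶜ.ncard = m → (∀ x ∈ T, ∀ g : H, g • x ∈ T) →
        (∀ x ∉ T, k ∣ (MulAction.orbit H x).ncard) → k ∣ m := by
      intro m
      induction m using Nat.strong_induction_on with
      | _ m ihm =>
        intro T hT hinv hk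
        rcases Nat.eq_zero_or_pos m with h1 | h1
        · simp [h1]
        obtain ⟨y, hy⟩ := (Set.ncard_pos).1 (hT ▸ h1)
        have hsub : MulAction.orbit H y ⊆ Tᶜ := by
          rintro _ ⟨g, rfl⟩ hgy
          exact hy (by simpa using hinv _ hgy g⁻¹)
        have hsplit : (T ∪ MulAction.orbit H y)ᶜ.ncard + (MulAction.orbit H y).ncard = m := by
          rw [← hT, Set.compl_union, ← Set.diff_eq, Set.ncard_diff hsub, Nat.sub_add_cancel (Set.ncard_le_ncard hsub)]
        have hpos : 0 < (MulAction.orbit H y).ncard :=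
          (Set.ncard_pos).2 ⟨y, MulAction.mem_orbit_self y⟩
        have h2 := ihm _ (by omega) (T ∪ MulAction.orbit H y) rfl (fun z hz g => ?_)
          (fun z hz => hk z fun hz' => hz (Or.inl hz'))
        · exact hsplit ▸ dvd_add h2 (hk y hy)
        rcases hz with hz | hz
        · exact Or.inl (hinv z hz g)
        · exact Or.inr (MulAction.mem_orbit_of_mem_orbit g hz)
    exact key n S hn (fun z hz g => by rw [hfix z hz g]; exact hz) h

/-- In a group of order 27 the orbit of another Sylow subgroup is counted by the intersection. -/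
theorem orbit_mul_card (P Q : Sylow 3 G) (hP : Nat.card ↥(P : Subgroup G) = 27) :
    (MulAction.orbit ↥(P : Subgroup G) Q).ncard * Nat.card ↥((P : Subgroup G) ⊓ (Q : Subgroup G)) = 27 := by
  rw [← hP, ← (MulAction.stabilizer ↥(P : Subgroup G) Q).index_mul_card, MulAction.index_stabilizer]
  congr 1
  refine Nat.card_congr
    { toFun := fun g => ⟨⟨g.1, g.2.1⟩, Sylow.smul_eq_iff_mem_normalizer.2 (le_normalizer g.2.2)⟩
      invFun := fun g => ⟨g.1.1, g.1.2, mem_of_normalizes Q g.1.2 (Sylow.smul_eq_iff_mem_normalizer.1 g.2)⟩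
      left_inv := fun g => rfl
      right_inv := fun g => rfl }

theorem card_sylow_three (hN : Nat.card G = 6048) (P : Sylow 3 G) : Nat.card ↥(P : Subgroup G) = 27 := by
  simpa using card_sylow_eq (e := 3) (m := 224) (by rw [hN]; norm_num) (by norm_num) P

theorem modEq_of_orbits (hN : Nat.card G = 6048) (P : Sylow 3 G) (k : ℕ)
    (h : ∀ Q : Sylow 3 G, Q ≠ P → k * Nat.card ↥((P : Subgroup G) ⊓ (Q : Subgroup G)) ∣ 27) :
    k ∣ Nat.card (Sylow 3 G) - 1 := by
  have hk := dvd_card_sub_of_orbits (H := ↥(P : Subgroup G)) k ({P} : Set (Sylow 3 G))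
    (fun Q hQ g => by rw [Set.mem_singleton_iff.1 hQ]; exact Sylow.smul_eq_iff_mem_normalizer.2 (le_normalizer g.2))
    fun Q hQ => by
      have := h Q fun e => hQ (Set.mem_singleton_iff.2 e)
      rw [← orbit_mul_card P Q (card_sylow_three hN P)] at this
      exact (Nat.mul_dvd_mul_iff_right Nat.card_pos).1 this
  rwa [Set.ncard_compl, Set.ncard_singleton] at hk

theorem Sparse.orderOf_sylow_three (h : Sparse G) (T : Sylow 3 G) {g : G} (hg : g ∈ (T : Subgroup G))
    (hg1 : g ≠ 1) : orderOf g = 3 := by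
  obtain ⟨i, hi⟩ := IsPGroup.iff_orderOf.1 T.2 ⟨g, hg⟩
  rw [Subgroup.orderOf_mk] at hi
  match i with
  | 0 => rw [pow_zero, orderOf_eq_one_iff] at hi; exact absurd hi hg1
  | 1 => rw [hi, pow_one]
  | i + 2 => exact absurd (orderOf_pow (n := 3 ^ i) g |>.trans (by
      rw [hi, Nat.gcd_eq_right (Dvd.intro (3 ^ 2) (by ring)), show 3 ^ (i + 2) = 3 ^ i * 9 by ring,
        Nat.mul_div_cancel_left _ (pow_pos (by norm_num) i)])) (h.nine _)

theorem Sparse.not_seven_centralizer (h : Sparse G) {x : G} (hx : orderOf x = 3) :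
    ¬ 7 ∣ Nat.card ↥(centralizer ({x} : Set G)) := by
  intro h7
  obtain ⟨⟨g, hg⟩, ho⟩ := exists_prime_orderOf_dvd_card' 7 h7
  rw [Subgroup.orderOf_mk] at ho
  exact h.not_commute_seven (Or.inr rfl) ho hx (mem_centralizer_singleton_iff.1 hg)

theorem centralizer_dvd (hN : Nat.card G = 6048) (h : Sparse G) {x : G} (hx : orderOf x = 3) {d : ℕ}
    (hd : d = 1 ∧ ¬ 2 ∣ Nat.card ↥(centralizer ({x} : Set G)) ∨ d = 4 ∧ ¬ 8 ∣ Nat.card ↥(centralizer ({x} : Set G))) :
    Nat.card ↥(centralizer ({x} : Set G)) ∣ 27 * d := by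
  have h7 := h.not_seven_centralizer hx
  have hC := hN ▸ (centralizer ({x} : Set G)).card_subgroup_dvd_card
  generalize Nat.card ↥(centralizer ({x} : Set G)) = c at *
  have hc7 : c ∣ 864 := ((Nat.Prime.coprime_iff_not_dvd (by norm_num : Nat.Prime 7)).2 h7).symm.dvd_of_dvd_mul_left
    (show c ∣ 7 * 864 from hC)
  obtain ⟨c1, c2, h1, h2, rfl⟩ := (Nat.dvd_mul (k := c) (m := 27) (n := 32)).1 hc7
  refine Nat.mul_dvd_mul h1 ?_
  obtain ⟨j, -, rfl⟩ := (Nat.dvd_prime_pow Nat.prime_two (m := 5)).1 h2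
  rcases hd with ⟨rfl, hd⟩ | ⟨rfl, hd⟩
  · rcases j with _ | j
    · simp
    · exact absurd (dvd_mul_of_dvd_right (dvd_pow_self 2 (by omega)) _) hd
  · have : j ≤ 2 := by
      by_contra hj
      exact hd (dvd_mul_of_dvd_right (pow_dvd_pow 2 (m := 3) (by omega)) _)
    exact pow_dvd_pow 2 this

variable (W : Weight G)

/-- the constraints on the four lines of a plane -/
theorem plane_all {x y : G} (hx : orderOf x = 3) (hy : orderOf y = 3) (hc : Commute x y) (hn : y ∉ zpowers x) :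
    ∃ m0 m1 m2 m3 m4 : ℕ, 3 * (m0 : ℤ) = 2 + 2 * (W.u x + W.u y + W.u (x * y) + W.u (x * y ^ 2)) ∧
      3 * (m1 : ℤ) = 2 + 3 * W.u x - (W.u x + W.u y + W.u (x * y) + W.u (x * y ^ 2)) ∧
      3 * (m2 : ℤ) = 2 + 3 * W.u y - (W.u x + W.u y + W.u (x * y) + W.u (x * y ^ 2)) ∧
      3 * (m3 : ℤ) = 2 + 3 * W.u (x * y) - (W.u x + W.u y + W.u (x * y) + W.u (x * y ^ 2)) ∧
      3 * (m4 : ℤ) = 2 + 3 * W.u (x * y ^ 2) - (W.u x + W.u y + W.u (x * y) + W.u (x * y ^ 2)) := by
  obtain ⟨h5, h6⟩ := orderOf_plane hx hy hc hn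
  have hy3 : y ^ 3 = 1 := orderOf_dvd_iff_pow_eq_one.1 (dvd_of_eq hy)
  have hx3 : x ^ 3 = 1 := orderOf_dvd_iff_pow_eq_one.1 (dvd_of_eq hx)
  have hx2 : x ^ 2 = x⁻¹ := eq_inv_of_mul_eq_one_left (by rw [← pow_succ]; exact hx3)
  have hy2 : y ^ 2 = y⁻¹ := eq_inv_of_mul_eq_one_left (by rw [← pow_succ]; exact hy3)
  have hxn : x ∉ zpowers y := by
    intro hm
    have : zpowers x = zpowers y := Subgroup.eq_of_le_of_card_ge (zpowers_le.2 hm)
      (by rw [Nat.card_zpowers, Nat.card_zpowers, hx, hy])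
    exact hn (this ▸ mem_zpowers y)
  have hn' : ∀ {g : G}, orderOf g = 3 → (∀ (hg : g ∈ zpowers y), x ∈ zpowers y) → y ∉ zpowers g := by
    intro g hg himp hm
    have heq : zpowers y = zpowers g := Subgroup.eq_of_le_of_card_ge (zpowers_le.2 hm)
      (by rw [Nat.card_zpowers, Nat.card_zpowers, hg, hy])
    exact hxn (himp (heq ▸ mem_zpowers g))
  have e1 : y * x = x * y := hc.eq.symm
  have e2 : W.u (y * x ^ 2) = W.u (x * y ^ 2) := by
    rw [← W.inv_eq _ h6]
    congr 1
    rw [mul_inv_rev, hy2, inv_inv, hx2]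
  have e3 : x * y * y = x * y ^ 2 := by rw [pow_two, mul_assoc]
  have e4 : x * y * y ^ 2 = x := by rw [mul_assoc, ← pow_succ', hy3, mul_one]
  have e5 : x * y ^ 2 * y = x := by rw [mul_assoc, ← pow_succ, hy3, mul_one]
  have e6 : x * y ^ 2 * y ^ 2 = x * y := by
    rw [mul_assoc, ← pow_add, show (2 + 2) = 3 + 1 from rfl, pow_succ, hy3, one_mul]
  obtain ⟨m0, m1, a0, a1⟩ := W.plane x y hx hy hc hn
  obtain ⟨-, m2, -, a2⟩ := W.plane y x hy hx hc.symm hxn
  obtain ⟨-, m3, -, a3⟩ := W.plane (x * y) y h5 hy (hc.mul_left (Commute.refl y))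
    (hn' h5 fun hg => by simpa using mul_mem hg (inv_mem (mem_zpowers y)))
  obtain ⟨-, m4, -, a4⟩ := W.plane (x * y ^ 2) y h6 hy (hc.mul_left ((Commute.refl y).pow_left 2))
    (hn' h6 fun hg => e5 ▸ mul_mem hg (mem_zpowers y))
  rw [e1, e2] at a2
  rw [e3, e4] at a3
  rw [e5, e6] at a4
  exact ⟨m0, m1, m2, m3, m4, a0, a1, by linarith, by linarith, by linarith⟩

/-- a subgroup of order nine of a Sylow subgroup contains an element of weight zero -/
theorem exists_zero (h : Sparse G) (T : Sylow 3 G) (D : Subgroup G) (hDT : D ≤ (T : Subgroup G))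
    (hD : Nat.card D = 9) : ∃ x ∈ D, x ≠ 1 ∧ W.u x = 0 := by
  have hne : D ≠ ⊥ := fun e => by rw [e, Subgroup.card_bot] at hD; norm_num at hD
  obtain ⟨x, hxD, hx1⟩ := (Subgroup.bot_or_exists_ne_one D).resolve_left hne
  have hxo := h.orderOf_sylow_three T (hDT hxD) hx1
  obtain ⟨y, hyD, hyn⟩ : ∃ y ∈ D, y ∉ zpowers x := by
    by_contra hcon
    push Not at hcon
    have := Subgroup.card_le_of_le (show D ≤ zpowers x from hcon)
    rw [hD, Nat.card_zpowers, hxo] at this
    omega
  have hy1 : y ≠ 1 := fun e => hyn (e ▸ one_mem _)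
  have hyo := h.orderOf_sylow_three T (hDT hyD) hy1
  have hcomm : IsMulCommutative D := IsPGroup.isMulCommutative_of_card_eq_prime_sq (p := 3) (by rw [hD]; norm_num)
  have hc : Commute x y := congrArg Subtype.val (hcomm.is_comm.comm ⟨x, hxD⟩ ⟨y, hyD⟩)
  obtain ⟨h5, h6⟩ := orderOf_plane hxo hyo hc hyn
  obtain ⟨m0, m1, m2, m3, m4, e0, e1, e2, e3, e4⟩ := plane_all W hxo hyo hc hyn
  have r1 := W.range x hxo
  have r2 := W.range y hyo
  have r3 := W.range _ h5
  have r4 := W.range _ h6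
  by_contra hcon
  push Not at hcon
  have n1 := hcon x hxD hx1
  have n2 := hcon y hyD hy1
  have n3 := hcon (x * y) (mul_mem hxD hyD) fun e => by rw [e, orderOf_one] at h5; norm_num at h5
  have n4 := hcon (x * y ^ 2) (mul_mem hxD (pow_mem hyD 2)) fun e => by rw [e, orderOf_one] at h6; norm_num at h6
  omega

variable [IsSimpleGroup G]

theorem card_sylow_three_cases (hN : Nat.card G = 6048) (h : Sparse G) :
    Nat.card (Sylow 3 G) = 28 ∨ Nat.card (Sylow 3 G) = 112 := by
  classical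
  have hG : ¬ IsMulCommutative G := not_comm_of_not_prime (by rw [hN]; norm_num)
  obtain ⟨P⟩ := (inferInstance : Nonempty (Sylow 3 G))
  have hP := card_sylow_three hN P
  have hm : Nat.card (Sylow 3 G) % 3 = 1 := card_sylow_modEq_one 3 G
  have hd : Nat.card (Sylow 3 G) ∣ 224 := by
    have hi := (P : Subgroup G).card_mul_index
    rw [hP, hN] at hi
    exact (show (P : Subgroup G).index = 224 by omega) ▸ P.card_dvd_index
  have hne : normalizer ((P : Subgroup G) : Set G) ≠ ⊤ := fun e => by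
    rcases (Subgroup.normalizer_eq_top_iff.mp e).eq_bot_or_eq_top with h' | h'
    · rw [h', Subgroup.card_bot] at hP; norm_num at hP
    · rw [h', Subgroup.card_top, hN] at hP; norm_num at hP
  have hfac := two_mul_card_dvd_factorial hG hne
  rw [← show Nat.card (Sylow 3 G) = (normalizer ((P : Subgroup G) : Set G)).index from
    P.card_eq_index_normalizer, hN] at hfac
  have h16 : Nat.card (Sylow 3 G) ≠ 16 := by
    intro h16
    have hmul := card_normalizer_mul P
    rw [h16, hN] at hmul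
    obtain ⟨⟨g, hg⟩, ho⟩ := exists_prime_orderOf_dvd_card' (G := ↥(normalizer ((P : Subgroup G) : Set G))) 7
      (by rw [show Nat.card ↥(normalizer ((P : Subgroup G) : Set G)) = 378 by omega]; norm_num)
    rw [Subgroup.orderOf_mk] at ho
    let X := {x : G // x ∈ (P : Subgroup G) ∧ x ≠ 1}
    have hgP : ∀ x, x ∈ (P : Subgroup G) ↔ g * x * g⁻¹ ∈ (P : Subgroup G) := Subgroup.mem_normalizer_iff.1 hg
    let σ : Equiv.Perm X := (MulAut.conj g).toEquiv.subtypeEquiv fun x => by
      simp only [MulEquiv.toEquiv_eq_coe, MulEquiv.coe_toEquiv, MulAut.conj_apply, ne_eq, conj_eq_one_iff,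
        ← hgP x]
    have hσk : ∀ (k : ℕ) (x : X), ((σ ^ k) x).1 = g ^ k * x.1 * (g ^ k)⁻¹ := by
      intro k
      induction k with
      | zero => intro x; simp
      | succ k ih =>
        intro x
        rw [pow_succ', Equiv.Perm.mul_apply]
        show g * ((σ ^ k) x).1 * g⁻¹ = _
        rw [ih x, pow_succ']
        group
    have hσ : σ ^ 7 ^ 1 = 1 := Equiv.ext fun x => Subtype.ext (by
      rw [pow_one, hσk, ← ho, pow_orderOf_eq_one]; simp)
    have := Fintype.ofFinite X
    have := Fintype.ofFinite ↥(P : Subgroup G)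
    have hX : Fintype.card X = 26 := by
      rw [← Nat.card_eq_fintype_card, Nat.card_congr (β := {q : ↥(P : Subgroup G) // q ≠ 1})
        ⟨fun x => ⟨⟨x.1, x.2.1⟩, fun e => x.2.2 (congrArg Subtype.val e)⟩,
          fun q => ⟨q.1.1, q.1.2, fun e => q.2 (Subtype.ext e)⟩, fun x => rfl, fun q => rfl⟩,
        Nat.card_eq_fintype_card]
      rw [Fintype.card_subtype_compl, Fintype.card_subtype_eq, ← Nat.card_eq_fintype_card, hP]
    obtain ⟨x, hx⟩ := Equiv.Perm.exists_fixed_point_of_prime (p := 7) (by rw [hX]; norm_num) hσ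
    have hx' : g * x.1 * g⁻¹ = x.1 := congrArg Subtype.val hx
    exact h.not_commute_seven (Or.inr rfl) ho (h.orderOf_sylow_three P x.2.1 x.2.2) (mul_inv_eq_iff_eq_mul.1 hx')
  have hle := Nat.le_of_dvd (by norm_num) hd
  have hmem : Nat.card (Sylow 3 G) ∈ Nat.divisors 224 := Nat.mem_divisors.mpr ⟨hd, by norm_num⟩
  rw [show Nat.divisors 224 = {1, 2, 4, 7, 8, 14, 16, 28, 32, 56, 112, 224} by decide +kernel] at hmem
  simp only [Finset.mem_insert, Finset.mem_singleton] at hmem
  rcases hmem with e | e | e | e | e | e | e | e | e | e | e | e <;> rw [e] at hm hfac <;>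
    first | omega | (norm_num [Nat.factorial] at hfac) | exact absurd e h16

/-- order of the centralizer of an element of weight zero in a Sylow subgroup where it is central -/
theorem eq_centralizer_of_zero (hN : Nat.card G = 6048) (h : Sparse G) {P : Sylow 3 G} {x : G}
    (hxP : x ∈ (P : Subgroup G)) (hx1 : x ≠ 1) (hu : W.u x = 0)
    (hc : ∀ g ∈ (P : Subgroup G), g * x = x * g) : centralizer ({x} : Set G) = (P : Subgroup G) := by
  have hxo := h.orderOf_sylow_three P hxP hx1
  refine (Subgroup.eq_of_le_of_card_ge (fun g hg => mem_centralizer_singleton_iff.2 (hc g hg)) ?_).symm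
  rw [card_sylow_three hN P]
  exact Nat.le_of_dvd (by norm_num) (centralizer_dvd hN h hxo (d := 1) (Or.inl ⟨rfl, W.zero x hxo hu⟩))

end CfsgLib.UThreeRecog
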