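import Cfsg.Agent.Lib.UThreeRecog.Block
import Cfsg.Agent.Lib.Char.Linear
import Cfsg.Agent.Lib.Char.Integral
import Cfsg.Agent.Lib.Char.DefectZero

/-!
The values of the character of degree six at the elements of order three, and what they force.
-/

set_option autoImplicit false

namespace CfsgLib.UThreeRecog

open Subgroup CfsgLib.SmallOrder
open scoped ComplexConjugate

universe u

variable {G : Type u} [Group G]

theorem cube_root_cases {μ : ℂ} (h : μ ^ 3 = 1) : μ = 1 ∨ μ.re = -(1 / 2) := by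
  by_cases h1 : μ = 1
  · exact Or.inl h1
  · right
    have hq : μ * μ + μ + 1 = 0 := by
      have : (μ - 1) * (μ * μ + μ + 1) = 0 := by linear_combination h
      exact (mul_eq_zero.1 this).resolve_left (sub_ne_zero.2 h1)
    have hre := congrArg Complex.re hq
    have him := congrArg Complex.im hq
    simp [Complex.add_re, Complex.mul_re, Complex.add_im, Complex.mul_im] at hre him
    have h3 : μ.im * (2 * μ.re + 1) = 0 := by linarith
    rcases mul_eq_zero.1 h3 with h4 | h4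
    · exfalso
      rw [h4] at hre
      nlinarith [sq_nonneg (2 * μ.re + 1)]
    · linarith

/-- A real value at an element of order three. -/
theorem real_value [Fintype G] [IsSimpleGroup G] (hG : ¬ IsMulCommutative G) {χ : Cfsg.IrrCharacter G}
    (hχ : χ ≠ Char.principalIrr) {g : G} (hg : orderOf g = 3) (hreal : conj (χ.1 g) = χ.1 g) :
    ∃ a : ℕ, 1 ≤ a ∧ 2 * a ≤ Char.degree χ.1 ∧ χ.1 g = (((Char.degree χ.1 : ℤ) - 3 * a : ℤ) : ℂ) := by
  classical
  have hg1 : g ≠ 1 := fun e => by rw [e, orderOf_one] at hg; norm_num at hg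
  obtain ⟨μ, hμ, hpow, -, hns⟩ := exists_eigen_data hG hχ hg1 (r := 3) (hg ▸ pow_orderOf_eq_one g)
  have hv : χ.1 g = ∑ i, μ i := by simpa using hpow 1
  let F := Finset.univ.filter fun i => μ i ≠ 1
  have him : (χ.1 g).im = 0 := Complex.conj_eq_iff_im.1 hreal
  have hre : (χ.1 g).re = (Char.degree χ.1 : ℝ) - 3 / 2 * F.card := by
    have e1 : ∑ i ∈ F, (μ i).re = (F.card : ℝ) * -(1 / 2) := by
      rw [Finset.sum_congr rfl (g := fun _ => -(1 / 2 : ℝ)) fun i hi =>
        (cube_root_cases (hμ i)).resolve_left (Finset.mem_filter.1 hi).2, Finset.sum_const, nsmul_eq_mul]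
    have e2 : ∑ i ∈ Finset.univ.filter (fun i => ¬ μ i ≠ 1), (μ i).re =
        ((Finset.univ.filter fun i => ¬ μ i ≠ 1).card : ℝ) := by
      rw [Finset.sum_congr rfl (g := fun _ => (1 : ℝ)) fun i hi => by
        rw [not_not.1 (Finset.mem_filter.1 hi).2, Complex.one_re], Finset.sum_const, nsmul_eq_mul, mul_one]
    have hsplit : F.card + (Finset.univ.filter fun i => ¬ μ i ≠ 1).card = Char.degree χ.1 := by
      rw [Finset.card_filter_add_card_filter_not, Finset.card_univ, Fintype.card_fin]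
    have hs : (F.card : ℝ) + ((Finset.univ.filter fun i => ¬ μ i ≠ 1).card : ℝ) = (Char.degree χ.1 : ℝ) := by
      exact_mod_cast hsplit
    rw [hv, Complex.re_sum, ← Finset.sum_filter_add_sum_filter_not Finset.univ (fun i => μ i ≠ 1)]
    show ∑ i ∈ F, (μ i).re + _ = _
    rw [e1, e2]
    linarith
  have heven : Even F.card := by
    have hq : IsIntegral ℤ (((((Char.degree χ.1 : ℚ) - 3 / 2 * F.card) : ℚ)) : ℂ) := by
      have he : ((((Char.degree χ.1 : ℚ) - 3 / 2 * F.card) : ℚ) : ℂ) = χ.1 g := by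
        apply Complex.ext
        · rw [hre]; simp
        · rw [him]; simp
      rw [he]
      obtain ⟨m, ρ, hρ, hc⟩ := χ.2
      rw [← hc]; exact Char.isIntegral_character ρ g
    obtain ⟨m, hm⟩ := Char.exists_int_of_isIntegral_ratCast hq
    have h2 : (2 : ℤ) * m = 2 * (Char.degree χ.1) - 3 * F.card := by
      have : (2 : ℚ) * m = 2 * (Char.degree χ.1) - 3 * F.card := by rw [hm]; ring
      exact_mod_cast this
    rw [Nat.even_iff]; omega
  obtain ⟨a, ha⟩ := heven
  refine ⟨a, ?_, ?_, ?_⟩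
  · by_contra h0
    have hF : F = ∅ := Finset.card_eq_zero.1 (by omega)
    refine hns ⟨1, fun i => ?_⟩
    by_contra hi
    have hiF : i ∈ F := Finset.mem_filter.2 ⟨Finset.mem_univ i, hi⟩
    rw [hF] at hiF
    exact absurd hiF (Finset.notMem_empty i)
  · have := Finset.card_le_univ F
    rw [Fintype.card_fin] at this
    omega
  · apply Complex.ext
    · rw [hre, ha]; push_cast; simp; ring
    · rw [him]; simp

theorem sum_zmod_three {M : Type*} [AddCommMonoid M] (f : ZMod 3 → M) : ∑ i, f i = f 0 + f 1 + f 2 :=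
  Fin.sum_univ_three f

/-- The multiplicities on an elementary abelian subgroup of order nine of a character of degree `d` real on it,
written with the values `3 u` on the four lines. -/
theorem plane_counts [Finite G] {χ : G → ℂ} (hχ : Cfsg.IsCharacter G χ) {d : ℕ} (hd : χ 1 = (d : ℂ)) {x y : G}
    (hx : x ^ 3 = 1) (hy : y ^ 3 = 1) (hxy : Commute x y) (hreal : ∀ g, conj (χ g) = χ g → χ g⁻¹ = χ g)
    {u1 u2 u3 u4 : ℤ} (h1 : χ x = ((3 * u1 : ℤ) : ℂ)) (h2 : χ y = ((3 * u2 : ℤ) : ℂ))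
    (h3 : χ (x * y) = ((3 * u3 : ℤ) : ℂ)) (h4 : χ (x * y ^ 2) = ((3 * u4 : ℤ) : ℂ)) :
    ∃ m0 m1 : ℕ, 9 * (m0 : ℤ) = d + 6 * (u1 + u2 + u3 + u4) ∧ 9 * (m1 : ℤ) = d + 9 * u1 - 3 * (u1 + u2 + u3 + u4) := by
  classical
  have hψx : (3 : ℕ) ∣ 3 := dvd_refl 3
  let ψ : Multiplicative (ZMod 3) × Multiplicative (ZMod 3) →* G :=
    { toFun := fun p => x ^ p.1.toAdd.val * y ^ p.2.toAdd.val
      map_one' := by simp
      map_mul' := by
        rintro ⟨i, j⟩ ⟨k, l⟩
        simp only [Prod.mk_mul_mk, toAdd_mul, ZMod.val_add]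
        rw [← pow_eq_pow_mod _ hx, ← pow_eq_pow_mod _ hy, pow_add, pow_add]
        simp only [mul_assoc]
        rw [← mul_assoc (x ^ k.toAdd.val), ← mul_assoc (y ^ j.toAdd.val) (x ^ k.toAdd.val),
          (hxy.pow_pow k.toAdd.val j.toAdd.val).eq, mul_assoc] }
  have hψ : ∀ i j : ZMod 3, ψ (Multiplicative.ofAdd i, Multiplicative.ofAdd j) = x ^ i.val * y ^ j.val :=
    fun i j => rfl
  have hinv : ∀ g : G, ∀ v : ℤ, χ g = ((3 * v : ℤ) : ℂ) → χ g⁻¹ = ((3 * v : ℤ) : ℂ) := fun g v hg =>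
    (hreal g (by rw [hg, map_intCast])).trans hg
  have hx2 : x ^ 2 = x⁻¹ := eq_inv_of_mul_eq_one_left (by rw [← hx]; group)
  have hy2 : y ^ 2 = y⁻¹ := eq_inv_of_mul_eq_one_left (by rw [← hy]; group)
  have v20 : χ (x ^ 2) = ((3 * u1 : ℤ) : ℂ) := hx2 ▸ hinv x u1 h1
  have v02 : χ (y ^ 2) = ((3 * u2 : ℤ) : ℂ) := hy2 ▸ hinv y u2 h2
  have v22 : χ (x ^ 2 * y ^ 2) = ((3 * u3 : ℤ) : ℂ) := by
    rw [hx2, hy2, ← mul_inv_rev, ← hxy.eq]; exact hinv _ u3 h3
  have v21 : χ (x ^ 2 * y) = ((3 * u4 : ℤ) : ℂ) := by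
    have e : x ^ 2 * y = (x * y ^ 2)⁻¹ := by
      rw [hy2, mul_inv_rev, inv_inv, hx2, hxy.inv_left.eq]
    rw [e]; exact hinv _ u4 h4
  have h01 : (0 : ZMod 3).val = 0 := rfl
  have h11 : (1 : ZMod 3).val = 1 := rfl
  have h21 : (2 : ZMod 3).val = 2 := rfl
  let lam : ZMod 3 → Multiplicative (ZMod 3) × Multiplicative (ZMod 3) →* ℂˣ := fun b =>
    ((ZMod.stdAddChar (N := 3)).mulShift b).toMonoidHom.toHomUnits.comp (MonoidHom.snd _ _)
  have hlam : ∀ (b : ZMod 3) (i j : ZMod 3),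
      ((lam b (Multiplicative.ofAdd i, Multiplicative.ofAdd j) : ℂˣ) : ℂ) = ZMod.stdAddChar (b * j) := fun b i j => rfl
  have key : ∀ b : ZMod 3, ∃ m : ℕ, 9 * (m : ℂ) = ∑ i : ZMod 3, ∑ j : ZMod 3,
      χ (x ^ i.val * y ^ j.val) * conj (ZMod.stdAddChar (b * j)) := by
    intro b
    obtain ⟨m, hm⟩ := Char.IsCharacter.exists_nat_classInner (Char.IsCharacter.comp hχ ψ)
      (Char.isIrrCharacter_monoidHom (lam b))
    refine ⟨m, ?_⟩
    rw [← hm, Cfsg.classInner, ← mul_assoc, show (9 : ℂ) * ((Nat.card (Multiplicative (ZMod 3) × Multiplicative (ZMod 3)) : ℂ))⁻¹ = 1 by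
      rw [Nat.card_prod, show Nat.card (Multiplicative (ZMod 3)) = 3 from Nat.card_zmod 3]
      norm_num, one_mul, Fintype.sum_prod_type]
    exact Fintype.sum_equiv Multiplicative.toAdd _ _ fun i =>
      Fintype.sum_equiv Multiplicative.toAdd _ _ fun j => rfl
  obtain ⟨m0, hm0⟩ := key 0
  obtain ⟨m1, hm1⟩ := key 1
  have hω : (ZMod.stdAddChar (1 : ZMod 3) : ℂ) + ZMod.stdAddChar (2 : ZMod 3) = -1 := by
    have h := sum_stdAddChar (p := 3) (1 : ZMod 3)
    rw [if_neg (by decide), sum_zmod_three] at h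
    simp only [zero_mul, one_mul, AddChar.map_zero_eq_one, mul_one] at h
    linear_combination h
  simp only [sum_zmod_three, h01, h11, h21, pow_zero, pow_one, one_mul, mul_one, zero_mul, mul_zero,
    neg_zero, AddChar.map_zero_eq_one, map_one, hd, h1, h2, h3, h4, v20, v02, v22, v21,
    SmallOrder.conj_stdAddChar] at hm0 hm1
  rw [show (-1 : ZMod 3) = 2 by decide, show (-2 : ZMod 3) = 1 by decide] at hm1
  refine ⟨m0, m1, ?_, ?_⟩
  · apply Int.cast_injective (α := ℂ)
    push_cast at hm0 ⊢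
    linear_combination hm0
  · apply Int.cast_injective (α := ℂ)
    push_cast at hm1 ⊢
    linear_combination hm1 + (3 * (u2 : ℂ) + 3 * u3 + 3 * u4) * hω

/-- A weight on the elements of order three. -/
structure Weight (G : Type u) [Group G] where
  /-- the weight -/
  u : G → ℤ
  range : ∀ x, orderOf x = 3 → -1 ≤ u x ∧ u x ≤ 1
  conj_eq : ∀ x a : G, u (a * x * a⁻¹) = u x
  inv_eq : ∀ x, orderOf x = 3 → u x⁻¹ = u x
  plane : ∀ x y : G, orderOf x = 3 → orderOf y = 3 → Commute x y → y ∉ zpowers x →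
    ∃ m0 m1 : ℕ, 3 * (m0 : ℤ) = 2 + 2 * (u x + u y + u (x * y) + u (x * y ^ 2)) ∧
      3 * (m1 : ℤ) = 2 + 3 * u x - (u x + u y + u (x * y) + u (x * y ^ 2))
  zero : ∀ x, orderOf x = 3 → u x = 0 → ¬ 2 ∣ Nat.card ↥(centralizer ({x} : Set G))
  neg : ∀ x, orderOf x = 3 → u x = -1 → ¬ 8 ∣ Nat.card ↥(centralizer ({x} : Set G))

theorem orderOf_plane [Finite G] {x y : G} (hx : orderOf x = 3) (hy : orderOf y = 3) (hc : Commute x y)
    (hn : y ∉ zpowers x) : orderOf (x * y) = 3 ∧ orderOf (x * y ^ 2) = 3 := by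
  have : Fact (Nat.Prime 3) := ⟨Nat.prime_three⟩
  have hx3 : x ^ 3 = 1 := hx ▸ pow_orderOf_eq_one x
  have hy3 : y ^ 3 = 1 := hy ▸ pow_orderOf_eq_one y
  refine ⟨orderOf_eq_prime (by rw [hc.mul_pow, hx3, hy3, one_mul]) fun h => hn ?_,
    orderOf_eq_prime (by rw [(hc.pow_right 2).mul_pow, hx3, ← pow_mul, pow_mul', hy3, one_pow, one_mul]) fun h => hn ?_⟩
  · rw [show y = x⁻¹ from eq_inv_of_mul_eq_one_right h]; exact inv_mem (mem_zpowers x)
  · have hy2 : y ^ 2 = y⁻¹ := eq_inv_of_mul_eq_one_left (by rw [← hy3]; group)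
    rw [hy2, mul_inv_eq_one] at h
    rw [← h]; exact mem_zpowers x

theorem not_two_of_zero_value [Finite G] (hN : Nat.card G = 6048) (χ : Cfsg.IrrCharacter G)
    (hd : Char.degree χ.1 = 32) {x : G} {v : ℕ} {j : ℕ} (hv : χ.1 x = -((v : ℕ) : ℂ)) (hj : v * 2 ^ j ∣ 32)
    (hvj : v * 2 ^ j = 32) : 2 ^ j ∣ (centralizer ({x} : Set G)).index := by
  obtain ⟨m, ρ, hρ, hc⟩ := χ.2
  have h := (Char.isIntegral_index_mul_char_div ρ x).neg
  rw [hc, hv] at h
  have hd' : (Module.finrank ℂ (Fin m → ℂ)) = 32 := by rw [← hd, ← hc, Char.degree_character]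
  rw [hd'] at h
  have h' : IsIntegral ℤ ((((centralizer ({x} : Set G)).index * v : ℕ) : ℂ) / ((32 : ℕ) : ℂ)) := by
    convert h using 1; push_cast; ring
  have hdvd := Char.dvd_of_isIntegral_natCast_div (by norm_num) h'
  rw [← hvj, mul_comm v] at hdvd
  have hv0 : 0 < v := Nat.pos_of_ne_zero fun e => by rw [e, zero_mul] at hvj; norm_num at hvj
  exact (Nat.mul_dvd_mul_iff_right hv0).1 hdvd

/-- The weight exists. -/
theorem exists_weight [Finite G] [IsSimpleGroup G] (hN : Nat.card G = 6048) (h : Sparse G) :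
    Nonempty (Weight G) := by
  classical
  cases nonempty_fintype G
  have hG : ¬ IsMulCommutative G := not_comm_of_not_prime (by rw [hN]; norm_num)
  obtain ⟨P⟩ := (inferInstance : Nonempty (Sylow 7 G))
  obtain ⟨hP, hC⟩ := h.card_centralizer_seven (a := 5) (b := 3) (by rw [hN]; norm_num) P
  obtain ⟨S⟩ := exists_csplit P hP
  have hV : Nat.card S.V = 1 := by
    have := S.card_centralizer; rw [hC] at this; omega
  have he : Nat.card S.act.range = 3 := by
    have := S.card_normalizer; rw [card_normalizer_seven hN h P, hV] at this; omega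
  obtain ⟨B⟩ := S.exists_blockSolution (t := 2) (by rw [he]) (by omega)
  obtain ⟨x, y, hxy, hshape⟩ := exists_shape hN h S B he
  have hrel : ∀ g : G, orderOf g = 3 →
      -1 + ((x.1 : ℂ) * x.2.1 g + (y.1 : ℂ) * y.2.1 g) + ((2 * B.sol.k + B.sol.ε : ℤ) : ℂ) * B.χ0.1 g = 0 := by
    intro g hg
    have hh := B.linear (fun χ => conj (χ.1 g⁻¹)) 0 fun o => by
      rw [S.sum_mul_vec _ 0, neg_zero, zero_div]
      intro i hi
      have hsub : Subsingleton S.V := Finite.card_le_one_iff_subsingleton.1 hV.le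
      simp only [CSplit.Ssum, finsum_eq_single _ (1 : S.V) (fun v hv => absurd (Subsingleton.elim v 1) hv),
        Subgroup.coe_one, mul_one]
      rw [Finset.sum_congr rfl (fun χ _ => mul_comm _ _), Char.sum_mul_conj, if_neg]
      intro hc
      obtain ⟨a, ha⟩ := isConj_iff.1 hc
      have h7 : orderOf (zpw S.z i) ∣ 7 := by
        rw [orderOf_dvd_iff_pow_eq_one, zpw, ← pow_mul, mul_comm, pow_mul,
          orderOf_dvd_iff_pow_eq_one.1 (dvd_of_eq S.hz), one_pow]
      have : orderOf (zpw S.z i) = 3 := by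
        rw [← hg, ← orderOf_inv g, ← ha, show a * zpw S.z i * a⁻¹ = MulAut.conj a (zpw S.z i) from rfl,
          MulEquiv.orderOf_eq]
      rw [this] at h7; norm_num at h7
    simp only [hxy, List.map_cons, List.map_nil, List.sum_cons, List.sum_nil, add_zero,
      ← Char.IsIrrCharacter.apply_inv (Subtype.prop _), inv_inv, Char.principalIrr_apply, map_one] at hh
    push_cast at hh ⊢
    exact hh
  have hdeg : ∀ χ : Cfsg.IrrCharacter G, χ.1 1 = (Char.degree χ.1 : ℂ) := fun χ =>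
    (Char.IsCharacter.degree_cast (Char.IsIrrCharacter.isCharacter χ.2)).symm
  have hnp : ∀ z ∈ B.χs, z.2 ≠ Char.principalIrr := fun z hz =>
    (B.good z.2 (Or.inr (List.mem_map.2 ⟨z, hz, rfl⟩))).1
  -- sort the shapes
  obtain ⟨x, y, hx, hy, hxy', hrel', hcases⟩ : ∃ x y, x ∈ B.χs ∧ y ∈ B.χs ∧
      (∀ z ∈ B.χs, z = x ∨ z = y) ∧
      (∀ g : G, orderOf g = 3 →
        -1 + ((x.1 : ℂ) * x.2.1 g + (y.1 : ℂ) * y.2.1 g) + ((2 * B.sol.k + B.sol.ε : ℤ) : ℂ) * B.χ0.1 g = 0) ∧
      ((2 * B.sol.k + B.sol.ε = -1 ∧ B.sol.f0 = 32 ∧ x.1 = 1 ∧ Char.degree x.2.1 = 6 ∧ y.1 = 1 ∧ Char.degree y.2.1 = 27) ∨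
      (2 * B.sol.k + B.sol.ε = 1 ∧ B.sol.f0 = 3 ∧ x.1 = 1 ∧ Char.degree x.2.1 = 6 ∧ y.1 = -1 ∧ Char.degree y.2.1 = 8)) := by
    simp only [goodShape, Bool.or_eq_true, Bool.and_eq_true, decide_eq_true_eq, Nat.beq_eq, Prod.mk.injEq] at hshape
    have hm : x ∈ B.χs ∧ y ∈ B.χs ∧ ∀ z ∈ B.χs, z = x ∨ z = y := by simp [hxy]
    have hrel2 : ∀ g : G, orderOf g = 3 →
        -1 + ((y.1 : ℂ) * y.2.1 g + (x.1 : ℂ) * x.2.1 g) + ((2 * B.sol.k + B.sol.ε : ℤ) : ℂ) * B.χ0.1 g = 0 :=
      fun g hg => by rw [← hrel g hg]; ring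
    rcases hshape with ⟨⟨c1, c2⟩, hh⟩ | ⟨⟨c1, c2⟩, hh⟩ <;> rcases hh with ⟨⟨a, b⟩, c, d⟩ | ⟨⟨a, b⟩, c, d⟩
    · exact ⟨x, y, hm.1, hm.2.1, hm.2.2, hrel, Or.inl ⟨c1, c2, a, b, c, d⟩⟩
    · exact ⟨y, x, hm.2.1, hm.1, fun z hz => (hm.2.2 z hz).symm, hrel2, Or.inl ⟨c1, c2, c, d, a, b⟩⟩
    · exact ⟨y, x, hm.2.1, hm.1, fun z hz => (hm.2.2 z hz).symm, hrel2, Or.inr ⟨c1, c2, c, d, a, b⟩⟩
    · exact ⟨x, y, hm.1, hm.2.1, hm.2.2, hrel, Or.inr ⟨c1, c2, a, b, c, d⟩⟩
  have hrealx : ∀ g, conj (x.2.1 g) = x.2.1 g := by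
    intro g
    refine conj_fixed S B he hV hx ?_ (fun z hz e => (hxy' z hz).resolve_right fun e' => ?_) ?_ ?_ g <;>
      rcases hcases with ⟨-, f, a, b, -, d⟩ | ⟨-, f, a, b, -, d⟩ <;>
      first | (rw [a]; norm_num) | (subst e'; omega) | omega
  rcases hcases with ⟨c1, c2, a, b, a', b'⟩ | ⟨c1, c2, a, b, a', b'⟩
  · -- the block 1, 6, 27, 32
    have h27 : ∀ g : G, orderOf g = 3 → y.2.1 g = 0 := by
      intro g hg
      obtain ⟨m, ρ, hρ, hc⟩ := y.2.2
      rw [← hc]
      refine Char.character_eq_zero_of_defect_zero ρ (p := 3) (n := 3) Nat.prime_three (by rw [hN]; norm_num)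
        (by rw [hN]; norm_num) ?_ g (by rw [hg])
      rw [show Module.finrank ℂ (Fin m → ℂ) = 27 by rw [← b', ← hc, Char.degree_character]]
      norm_num
    have hval : ∀ g : G, ∃ u : ℤ, orderOf g = 3 → (-1 ≤ u ∧ u ≤ 1 ∧ x.2.1 g = ((3 * u : ℤ) : ℂ) ∧
        B.χ0.1 g = ((3 * u - 1 : ℤ) : ℂ)) := by
      intro g
      by_cases hg : orderOf g = 3
      · obtain ⟨k, hk1, hk2, hk⟩ := real_value hG (hnp x hx) hg (hrealx g)
        rw [b] at hk hk2
        refine ⟨2 - k, fun _ => ⟨by omega, by omega, ?_, ?_⟩⟩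
        · rw [hk]; push_cast; ring
        · have := hrel' g hg
          rw [a, a', c1, h27 g hg, hk] at this
          push_cast at this ⊢
          linear_combination -this
      · exact ⟨0, fun h => absurd h hg⟩
    choose u hu using hval
    have hconj : ∀ g a : G, orderOf (a * g * a⁻¹) = orderOf g := fun g a => (MulAut.conj a).orderOf_eq g
    refine ⟨⟨fun g => if orderOf g = 3 then u g else 0, ?_, ?_, ?_, ?_, ?_, ?_⟩⟩
    · intro g hg; simp only [hg, if_true]; exact ⟨(hu g hg).1, (hu g hg).2.1⟩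
    · intro g a
      simp only [hconj]
      split_ifs with hg
      · have h1 := (hu g hg).2.2.1
        have h2 := (hu (a * g * a⁻¹) (by rw [hconj]; exact hg)).2.2.1
        obtain ⟨m, ρ, hρ, hc⟩ := x.2.2
        rw [← hc, ρ.char_conj, hc, h1] at h2
        have := Int.cast_injective h2
        omega
      · rfl
    · intro g hg
      have hg' : orderOf g⁻¹ = 3 := by rw [orderOf_inv]; exact hg
      simp only [hg, hg', if_true]
      have h1 := (hu g hg).2.2.1
      have h2 := (hu g⁻¹ hg').2.2.1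
      rw [Char.IsIrrCharacter.apply_inv x.2.2, hrealx, h1] at h2
      have := Int.cast_injective h2
      omega
    · intro p q hp hq hc hn
      obtain ⟨h5, h6⟩ := orderOf_plane hp hq hc hn
      simp only [hp, hq, h5, h6, if_true]
      obtain ⟨m0, m1, e0, e1⟩ := plane_counts (Char.IsIrrCharacter.isCharacter x.2.2) (d := 6)
        (by rw [hdeg, b]) (hp ▸ pow_orderOf_eq_one p) (hq ▸ pow_orderOf_eq_one q) hc
        (fun g hg => by rw [Char.IsIrrCharacter.apply_inv x.2.2]; exact hg)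
        (hu p hp).2.2.1 (hu q hq).2.2.1 (hu _ h5).2.2.1 (hu _ h6).2.2.1
      push_cast at e0 e1
      exact ⟨m0, m1, by linarith, by linarith⟩
    · intro g hg hu0 h2
      simp only [hg, if_true] at hu0
      have hd : Char.degree B.χ0.1 = 32 := B.hf0.symm.trans c2
      have hv := (hu g hg).2.2.2
      rw [hu0] at hv
      have := not_two_of_zero_value hN B.χ0 hd (v := 1) (j := 5) (by simpa using hv) (by norm_num) (by norm_num)
      have hmul := (centralizer ({g} : Set G)).card_mul_index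
      rw [hN] at hmul
      have := Nat.mul_dvd_mul h2 this
      rw [hmul] at this
      norm_num at this
    · intro g hg hu0 h8
      simp only [hg, if_true] at hu0
      have hd : Char.degree B.χ0.1 = 32 := B.hf0.symm.trans c2
      have hv := (hu g hg).2.2.2
      rw [hu0] at hv
      have := not_two_of_zero_value hN B.χ0 hd (v := 4) (j := 3) (by rw [hv]; norm_num) (by norm_num) (by norm_num)
      have hmul := (centralizer ({g} : Set G)).card_mul_index
      rw [hN] at hmul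
      have := Nat.mul_dvd_mul h8 this
      rw [hmul] at this
      norm_num at this
  · -- the impossible block 1, 8, 6, 3
    exfalso
    have hrealy : ∀ g, conj (y.2.1 g) = y.2.1 g := fun g =>
      conj_fixed S B he hV hy (by rw [a']; norm_num)
        (fun z hz e => (hxy' z hz).resolve_left fun e' => by subst e'; omega) (by omega) (by omega) g
    have h0 : ∀ g : G, orderOf g = 3 → B.χ0.1 g = 0 := by
      intro g hg
      have hr : conj (B.χ0.1 g) = B.χ0.1 g := by
        have h1 := hrel' g hg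
        rw [a, a', c1] at h1
        push_cast at h1
        have h2 : B.χ0.1 g = 1 - x.2.1 g + y.2.1 g := by linear_combination h1
        rw [h2, map_add, map_sub, map_one, hrealx, hrealy]
      obtain ⟨k, hk1, hk2, hk⟩ := real_value hG (B.good _ (Or.inl rfl)).1 hg hr
      rw [← B.hf0, c2] at hk hk2
      obtain rfl : k = 1 := by omega
      simpa using hk
    have : Fact (Nat.Prime 3) := ⟨Nat.prime_three⟩
    obtain ⟨T⟩ := (inferInstance : Nonempty (Sylow 3 G))
    have hT : Nat.card ↥(T : Subgroup G) = 27 := by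
      simpa using card_sylow_eq (e := 3) (m := 224) (by rw [hN]; norm_num) (by norm_num) T
    have hnt : Nontrivial ↥(T : Subgroup G) := Finite.one_lt_card_iff_nontrivial.1 (by omega)
    have := T.2.center_nontrivial
    obtain ⟨⟨z, hzc⟩, hz1⟩ := exists_ne (1 : Subgroup.center ↥(T : Subgroup G))
    have hexp : ∀ g ∈ (T : Subgroup G), g ≠ 1 → orderOf g = 3 := by
      intro g hg hg1
      obtain ⟨i, hi⟩ := IsPGroup.iff_orderOf.1 T.2 ⟨g, hg⟩
      rw [Subgroup.orderOf_mk] at hi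
      match i with
      | 0 => rw [pow_zero, orderOf_eq_one_iff] at hi; exact absurd hi hg1
      | 1 => rw [hi, pow_one]
      | i + 2 => exact absurd (orderOf_pow (n := 3 ^ i) g |>.trans (by
          rw [hi, Nat.gcd_eq_right (Dvd.intro (3 ^ 2) (by ring)), show 3 ^ (i + 2) = 3 ^ i * 9 by ring,
            Nat.mul_div_cancel_left _ (pow_pos (by norm_num) i)])) (h.nine _)
    obtain ⟨w, hwT, hwn⟩ : ∃ w ∈ (T : Subgroup G), w ∉ zpowers (z : G) := by
      by_contra hcon
      push Not at hcon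
      have hle : (T : Subgroup G) ≤ zpowers (z : G) := hcon
      have := Subgroup.card_le_of_le hle
      rw [hT, Nat.card_zpowers, hexp _ z.2 fun e => hz1 (Subtype.ext (Subtype.ext e))] at this
      omega
    have hzo := hexp _ z.2 fun e => hz1 (Subtype.ext (Subtype.ext e))
    have hwo := hexp w hwT fun e => hwn (by rw [e]; exact one_mem _)
    have hcm : Commute (z : G) w := (congrArg Subtype.val (Subgroup.mem_center_iff.1 hzc ⟨w, hwT⟩)).symm
    obtain ⟨h5, h6⟩ := orderOf_plane hzo hwo hcm hwn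
    obtain ⟨m0, m1, e0, -⟩ := plane_counts (Char.IsIrrCharacter.isCharacter B.χ0.2) (d := 3)
      (by rw [hdeg, ← B.hf0, c2]) (orderOf_dvd_iff_pow_eq_one.1 (dvd_of_eq hzo)) (orderOf_dvd_iff_pow_eq_one.1 (dvd_of_eq hwo)) hcm
      (fun g hg => by rw [Char.IsIrrCharacter.apply_inv B.χ0.2]; exact hg)
      (u1 := 0) (u2 := 0) (u3 := 0) (u4 := 0) (by simpa using h0 _ hzo) (by simpa using h0 _ hwo)
      (by simpa using h0 _ h5) (by simpa using h0 _ h6)
    omega

end CfsgLib.UThreeRecog
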